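import Cfsg.Agent.OddOrder.PiCore
import Cfsg.Agent.OddOrder.BG7.Rank
import Cfsg.Agent.OddOrder.BG2.Abelem2
import Cfsg.Agent.OddOrder.BG4.Basic
import Cfsg.Agent.OddOrder.BG1Stab
import Cfsg.Agent.OddOrder.BG7.Superset
import Cfsg.Agent.PLocal.CommutatorFacts
import Cfsg.Agent.ConjFunctor.Basic
import Cfsg.Agent.Coprime.Abelian
import Cfsg.Agent.IsolatedP.RankOne

/-!
# Group theoretic preliminaries for BG 11 and 12

Maximal elementary abelian subgroups of order `p ^ 2`, transvections on them, and coprime action.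
-/

set_option autoImplicit false
set_option linter.style.haveILetI false
set_option linter.unusedSectionVars false

namespace CfsgLib.OddOrder.BG11

open Cfsg Subgroup
open scoped commutatorElement

variable {G : Type*} [Group G] {p : ℕ}

/-- `A` lies in no larger elementary abelian `p`-subgroup. -/
def MaxElem (p : ℕ) (A : Subgroup G) : Prop :=
  ∀ B : Subgroup G, Cfsg.IsElementaryAbelian p B → A ≤ B → B = A

/-- Commuting elements of exponent `p` added to an elementary abelian group. -/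
theorem elem_sup_zpowers {A : Subgroup G} (hA : Cfsg.IsElementaryAbelian p A) {x : G}
    (hx : x ^ p = 1) (hc : x ∈ centralizer (A : Set G)) :
    Cfsg.IsElementaryAbelian p (A ⊔ zpowers x) := by
  have hle : zpowers x ≤ centralizer (A : Set G) := zpowers_le.2 hc
  have hn : zpowers x ≤ normalizer (A : Set G) := hle.trans (centralizer_le_normalizer _)
  have key : ∀ z ∈ A ⊔ zpowers x, ∃ a ∈ A, ∃ i : ℤ, z = a * x ^ i := by
    intro z hz
    rw [← SetLike.mem_coe, coe_mul_of_right_le_normalizer_left A (zpowers x) hn] at hz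
    obtain ⟨a, ha, b, hb, rfl⟩ := Set.mem_mul.1 hz
    obtain ⟨i, rfl⟩ := mem_zpowers_iff.1 hb
    exact ⟨a, ha, i, rfl⟩
  haveI := hA.1
  have hax : ∀ a ∈ A, ∀ i : ℤ, Commute a (x ^ i) := fun a ha i =>
    Commute.zpow_right (mem_centralizer_iff.1 hc a ha) i
  refine ⟨⟨⟨fun u v => Subtype.ext ?_⟩⟩, fun z hz => ?_⟩
  · obtain ⟨a, ha, i, e⟩ := key u u.2
    obtain ⟨b, hb, j, e'⟩ := key v v.2
    have hab : Commute a b := setLike_mul_comm (s := A) ha hb
    show (u : G) * v = v * u
    rw [e, e']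
    exact ((hab.mul_left (hax b hb i).symm).mul_right
      (((hax a ha j)).mul_left (Commute.zpow_zpow (Commute.refl x) i j))).eq
  · obtain ⟨a, ha, i, rfl⟩ := key z hz
    rw [(hax a ha i).mul_pow, hA.2 a ha, one_mul, ← zpow_natCast, ← zpow_mul, mul_comm, zpow_mul,
      zpow_natCast, hx, one_zpow]

/-- A maximal elementary abelian subgroup contains the elements of exponent `p` centralizing it. -/
theorem MaxElem.mem {A : Subgroup G} (hmax : MaxElem p A) (hA : Cfsg.IsElementaryAbelian p A)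
    {x : G} (hx : x ^ p = 1) (hc : x ∈ centralizer (A : Set G)) : x ∈ A := by
  have h := hmax _ (elem_sup_zpowers hA hx hc) le_sup_left
  exact h ▸ mem_sup_right (mem_zpowers x)

theorem MaxElem.pow_iff {A : Subgroup G} (hmax : MaxElem p A) (hA : Cfsg.IsElementaryAbelian p A)
    {x : G} (hc : x ∈ centralizer (A : Set G)) : x ^ p = 1 ↔ x ∈ A :=
  ⟨fun h => hmax.mem hA h hc, hA.2 x⟩

theorem le_centralizer_self {A : Subgroup G} (hA : IsMulCommutative A) :
    A ≤ centralizer (A : Set G) :=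
  le_centralizer_iff_isMulCommutative.2 hA

variable [Finite G] [Fact p.Prime]

/-- A subgroup of prime order is generated by any of its nontrivial elements. -/
theorem zpowers_eq_of_card {X : Subgroup G} (hX : Nat.card X = p) {x : G} (hx : x ∈ X)
    (hx1 : x ≠ 1) : zpowers x = X := by
  refine Subgroup.eq_of_le_of_card_ge (zpowers_le.2 hx) ?_
  rcases (Nat.dvd_prime (Fact.out : p.Prime)).1
    (hX ▸ Subgroup.card_dvd_of_le (zpowers_le.2 hx)) with h | h
  · exact absurd (zpowers_eq_bot.1 (Subgroup.card_eq_one.1 h)) hx1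
  · rw [h, hX]

omit [Finite G] in
theorem centralizer_zpowers (x : G) :
    centralizer ((zpowers x : Subgroup G) : Set G) = centralizer ({x} : Set G) := by
  rw [zpowers_eq_closure, centralizer_closure]

theorem exists_mem_ne_one_of_card {X : Subgroup G} (hX : Nat.card X = p) : ∃ x ∈ X, x ≠ 1 := by
  refine (bot_or_exists_ne_one X).resolve_left fun h => ?_
  rw [h, card_bot] at hX
  exact (Fact.out : p.Prime).ne_one hX.symm

theorem card_zpowers_of_mem {A : Subgroup G} (hA : ∀ a ∈ A, a ^ p = 1) {a : G} (ha : a ∈ A)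
    (ha1 : a ≠ 1) : Nat.card (zpowers a) = p := by
  rw [Nat.card_zpowers]
  exact orderOf_eq_prime (hA a ha) ha1

/-- In a group of order `p ^ 2` a subgroup strictly between has order `p`. -/
theorem card_eq_of_lt_of_ne_bot {A B : Subgroup G} (hA : Nat.card A = p ^ 2) (hB : B < A)
    (hne : B ≠ ⊥) : Nat.card B = p := by
  have hd := hA ▸ card_dvd_of_le hB.le
  obtain ⟨k, hk, hBk⟩ := (Nat.dvd_prime_pow (Fact.out : p.Prime)).1 hd
  have h1 : k ≠ 0 := by
    rintro rfl
    exact hne (Subgroup.card_eq_one.1 (by simpa using hBk))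
  have h2 : k ≠ 2 := by
    rintro rfl
    exact hB.ne (eq_of_le_of_card_ge hB.le (by rw [hA, hBk]))
  have : k = 1 := by omega
  simpa [this] using hBk

theorem not_isCyclic_of_card_sq {A : Subgroup G} (hA : Cfsg.IsElementaryAbelian p A)
    (hc : Nat.card A = p ^ 2) : ¬ IsCyclic A := by
  intro h
  obtain ⟨g, hg⟩ := h.exists_ofOrder_eq_natCard
  have : orderOf g ∣ p := orderOf_dvd_of_pow_eq_one (Subtype.ext (by simpa using hA.2 g g.2))
  rw [hg, hc] at this
  have h2 := Nat.le_of_dvd (Fact.out : p.Prime).pos this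
  have h3 := (Fact.out : p.Prime).one_lt
  nlinarith

theorem not_pRankLE_one_of_card_sq {A H : Subgroup G} (hAH : A ≤ H)
    (hA : Cfsg.IsElementaryAbelian p A) (hc : Nat.card A = p ^ 2) : ¬ Cfsg.PRankLE p 1 H :=
  not_pRankLE_of_le hAH hA (by rw [hc])

/-- Every elementary abelian group of order `p ^ 2` has lines other than a given one, and a line
together with an outside element generates it. -/
theorem sup_zpowers_eq_of_not_mem {A X : Subgroup G}
    (hc : Nat.card A = p ^ 2) (hXA : X ≤ A) (hX : Nat.card X = p) {a : G} (ha : a ∈ A)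
    (hna : a ∉ X) : X ⊔ zpowers a = A := by
  have hle : X ⊔ zpowers a ≤ A := sup_le hXA (zpowers_le.2 ha)
  refine (hle.eq_or_lt).resolve_right fun hlt => hna ?_
  have h1 : X ⊔ zpowers a ≠ ⊥ := by
    intro h
    exact hna ((eq_bot_iff.1 h (mem_sup_right (mem_zpowers a))) ▸ one_mem X)
  have h2 := card_eq_of_lt_of_ne_bot hc hlt h1
  have h3 : X = X ⊔ zpowers a := eq_of_le_of_card_ge le_sup_left (by rw [hX, h2])
  exact h3 ▸ mem_sup_right (mem_zpowers a)

theorem sup_eq_of_card {A X Y : Subgroup G}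
    (hc : Nat.card A = p ^ 2) (hXA : X ≤ A) (hX : Nat.card X = p) (hYA : Y ≤ A)
    (hY : Nat.card Y = p) (hne : X ≠ Y) : X ⊔ Y = A := by
  obtain ⟨y, hy, hy1⟩ := exists_mem_ne_one_of_card hY
  have hyX : y ∉ X := fun h => hne ((zpowers_eq_of_card hX h hy1).symm.trans
    (zpowers_eq_of_card hY hy hy1))
  rw [← zpowers_eq_of_card hY hy hy1]
  exact sup_zpowers_eq_of_not_mem hc hXA hX (hYA hy) hyX

/-- Two commuting elements of exponent `p` off a common line span a group of order `p ^ 2`. -/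
theorem card_sup_eq_sq {X Y : Subgroup G} (hX : Nat.card X = p) (hY : Nat.card Y = p)
    (hXY : Y ≤ normalizer (X : Set G)) (hne : X ≠ Y) : Nat.card ↥(X ⊔ Y) = p ^ 2 := by
  have hbot : X ⊓ Y = ⊥ := by
    by_contra h
    obtain ⟨z, hz, hz1⟩ := (bot_or_exists_ne_one (X ⊓ Y)).resolve_left h
    exact hne ((zpowers_eq_of_card hX hz.1 hz1).symm.trans (zpowers_eq_of_card hY hz.2 hz1))
  rw [Coprime.card_sup_eq hXY hbot, hX, hY, sq]

/-- An odd `p`-group with at most `p` elements of exponent `p` in a line is cyclic. -/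
theorem isCyclic_of_omega_le {P Z : Subgroup G} (hP : IsPGroup p P) (hp2 : p ≠ 2)
    (hZ : Nat.card Z ≤ p) (h : ∀ x ∈ P, x ^ p = 1 → x ∈ Z) : IsCyclic P := by
  refine IsolatedP.isCyclic_of_card_pow_eq_one_le_prime p hp2 _ P rfl hP (le_trans ?_ hZ)
  refine Nat.card_le_card_of_injective (fun y : {y : P // y ^ p = 1} =>
    (⟨(y.1 : G), h _ y.1.2 (by simpa using congrArg Subtype.val y.2)⟩ : Z)) ?_
  intro a b hab
  have h2 : ((a.1 : P) : G) = b.1 := by simpa using hab
  exact Subtype.ext (Subtype.ext h2)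

/-- A subgroup of prime order `p` normalized by a `p`-group is centralized by it. -/
theorem le_centralizer_of_card_prime {P X : Subgroup G} (hP : IsPGroup p P) (hX : Nat.card X = p)
    (hn : P ≤ normalizer (X : Set G)) : P ≤ centralizer (X : Set G) := by
  intro g hg
  obtain ⟨x, hx, hx1⟩ := exists_mem_ne_one_of_card hX
  rw [← zpowers_eq_of_card hX hx hx1, centralizer_zpowers, mem_centralizer_singleton_iff]
  have hord : orderOf x = p := by
    rw [← Nat.card_zpowers, zpowers_eq_of_card hX hx hx1, hX]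
  have hgx : g * x * g⁻¹ ∈ zpowers x := by
    rw [zpowers_eq_of_card hX hx hx1]
    exact (mem_normalizer_iff.1 (hn hg) x).1 hx
  obtain ⟨i, hi⟩ := mem_zpowers_iff.1 hgx
  obtain ⟨k, hk⟩ := hP ⟨g, hg⟩
  have hk' : g ^ (p ^ k) = 1 := by simpa using congrArg Subtype.val hk
  have h := IsolatedP.pow_mul_of_conj x g i 0 (by rw [hi]) (p ^ k)
  have hiter : ∀ n : ℕ, g ^ n * x * (g ^ n)⁻¹ = x ^ (i ^ n) := by
    intro n
    induction n with
    | zero => simp
    | succ n ih =>
      calc g ^ (n + 1) * x * (g ^ (n + 1))⁻¹ = g * (g ^ n * x * (g ^ n)⁻¹) * g⁻¹ := by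
            rw [pow_succ']; group
        _ = g * x ^ (i ^ n) * g⁻¹ := by rw [ih]
        _ = (g * x * g⁻¹) ^ (i ^ n) := by rw [conj_zpow]
        _ = x ^ (i ^ (n + 1)) := by rw [← hi, ← zpow_mul, pow_succ']
  have h1 := hiter (p ^ k)
  rw [hk', one_mul, inv_one, mul_one] at h1
  have h2 : ((i ^ (p ^ k) : ℤ) : ZMod p) = 1 := by
    have h3 : x ^ (i ^ (p ^ k)) = x ^ (1 : ℤ) := by rw [← h1, zpow_one]
    rw [zpow_eq_zpow_iff_modEq, hord] at h3
    exact_mod_cast (ZMod.intCast_eq_intCast_iff _ _ _).2 h3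
  rw [Int.cast_pow, ZMod.pow_card_pow] at h2
  have h4 : g * x * g⁻¹ = x := by
    rw [← hi]
    conv_rhs => rw [← zpow_one x]
    rw [zpow_eq_zpow_iff_modEq, hord]
    exact (ZMod.intCast_eq_intCast_iff _ _ _).1 (by simpa using h2)
  exact mul_inv_eq_iff_eq_mul.1 h4

/-- A `p`-element normalizing but not centralizing `A` of order `p ^ 2` fixes exactly one line. -/
theorem card_inf_centralizer_eq {A : Subgroup G} (hA : Cfsg.IsElementaryAbelian p A)
    (hc : Nat.card A = p ^ 2) {u : G} (hu : u ∈ normalizer (A : Set G))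
    (hup : IsPGroup p (zpowers u)) (hun : u ∉ centralizer (A : Set G)) :
    Nat.card ↥(A ⊓ centralizer ({u} : Set G)) = p := by
  have hne : A ⊓ centralizer ({u} : Set G) ≠ ⊥ := by
    have hn : zpowers u ≤ normalizer (A : Set G) := zpowers_le.2 hu
    have hP : IsPGroup p ↥(A ⊔ zpowers u) :=
      IsPGroup.to_sup_of_normal_left' (isPGroup_of_isElementaryAbelian hA) hup hn
    haveI := hP.isNilpotent
    set W := A ⊔ zpowers u
    haveI : (A.subgroupOf W).Normal :=
      (normal_subgroupOf_iff_le_normalizer le_sup_left).2 (sup_le le_normalizer hn)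
    have hA' : A.subgroupOf W ≠ ⊥ := by
      intro h
      have h1 := congrArg (Subgroup.map W.subtype) h
      rw [map_subgroupOf_eq_of_le le_sup_left, Subgroup.map_bot] at h1
      rw [h1, card_bot] at hc
      exact (Nat.one_lt_pow two_ne_zero (Fact.out : p.Prime).one_lt).ne hc
    obtain ⟨z, hz, hzc, hzo⟩ := BG4.exists_central_orderOf_prime hP hA'
    have hz1 : z ≠ 1 := fun h => by
      rw [h, orderOf_one] at hzo
      exact (Fact.out : p.Prime).ne_one hzo.symm
    intro h
    apply hz1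
    have hmem : (z : G) ∈ A ⊓ centralizer ({u} : Set G) := ⟨hz, mem_centralizer_singleton_iff.2
      (congrArg Subtype.val (mem_center_iff.1 hzc ⟨u, mem_sup_right (mem_zpowers u)⟩)).symm⟩
    rw [h, mem_bot] at hmem
    exact Subtype.ext hmem
  refine card_eq_of_lt_of_ne_bot hc (lt_of_le_of_ne inf_le_left fun h => hun ?_) hne
  rw [mem_centralizer_iff]
  intro a ha
  exact mem_centralizer_singleton_iff.1 ((inf_eq_left.1 h) ha)

/-- In a `p`-group the lines of a noncentral maximal elementary abelian group of order `p ^ 2`,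
other than the central one, are conjugate. -/
theorem exists_conj_line {P A X X' Z : Subgroup G} (hP : IsPGroup p P) (hAP : A ≤ P)
    (hA : Cfsg.IsElementaryAbelian p A) (hc : Nat.card A = p ^ 2) (hmax : MaxElem p A)
    (hnc : ¬ P ≤ centralizer (A : Set G)) (hZ : Nat.card Z = p) (hZA : Z ≤ A)
    (hPZ : P ≤ centralizer (Z : Set G)) (hX : Nat.card X = p) (hXA : X ≤ A) (hXZ : X ≠ Z)
    (hX' : Nat.card X' = p) (hX'A : X' ≤ A) (hX'Z : X' ≠ Z) :
    ∃ u ∈ P, X.map (MulAut.conj u).toMonoidHom = X' := by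
  set C := P ⊓ centralizer (A : Set G) with hC
  have hlt : C < P := lt_of_le_of_ne inf_le_left fun h => hnc (inf_eq_left.1 h)
  obtain ⟨u, ⟨huP, huC⟩, huC'⟩ := SetLike.exists_of_lt (ConjFunctor.lt_inf_normalizer hP hlt)
  have hun : u ∉ centralizer (A : Set G) := fun h => huC' ⟨huP, h⟩
  have hAC : A ≤ C := le_inf hAP (le_centralizer_self hA.1)
  have huA : u ∈ normalizer (A : Set G) := by
    refine ConjFunctor.mem_normalizer_of_forall_conj_mem fun a ha => ?_
    have h1 := (mem_normalizer_iff.1 huC a).1 (hAC ha)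
    exact hmax.mem hA (by rw [conj_pow, hA.2 a ha]; group) h1.2
  have hup : IsPGroup p (zpowers u) := hP.to_le (zpowers_le.2 huP)
  have huZ : u ∈ centralizer (Z : Set G) := hPZ huP
  obtain ⟨x, hx, hx1⟩ := exists_mem_ne_one_of_card hX
  have hxA := hXA hx
  have hgen : Z ⊔ zpowers x = A := sup_zpowers_eq_of_not_mem hc hZA hZ hxA fun h =>
    hXZ ((zpowers_eq_of_card hX hx hx1).symm.trans (zpowers_eq_of_card hZ h hx1))
  haveI := hA.1
  have hcomm : ∀ {a b : G}, a ∈ A → b ∈ A → Commute a b := fun ha hb =>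
    setLike_mul_comm (s := A) ha hb
  have dec : ∀ a ∈ A, ∃ z ∈ Z, ∃ i : ℤ, a = z * x ^ i := by
    intro a ha
    have hn : Z ≤ normalizer (zpowers x : Set G) := fun z hz =>
      centralizer_le_normalizer _ (mem_centralizer_iff.2 fun y hy =>
        (hcomm (zpowers_le.2 hxA hy) (hZA hz)).eq)
    rw [← hgen, ← SetLike.mem_coe, coe_mul_of_left_le_normalizer_right _ _ hn] at ha
    obtain ⟨z, hz, b, hb, rfl⟩ := Set.mem_mul.1 ha
    obtain ⟨i, rfl⟩ := mem_zpowers_iff.1 hb
    exact ⟨z, hz, i, rfl⟩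
  obtain ⟨t, ht, j, hj⟩ := dec _ ((mem_normalizer_iff.1 huA x).1 hxA)
  have hor : orderOf x = p := orderOf_eq_prime (hA.2 x hxA) hx1
  have huz : ∀ z ∈ Z, ∀ n : ℕ, u ^ n * z * (u ^ n)⁻¹ = z := by
    intro z hz n
    rw [← mem_centralizer_iff.1 (pow_mem huZ n) z hz, mul_inv_cancel_right]
  have hiter : ∀ n : ℕ, ∃ z ∈ Z, u ^ n * x * (u ^ n)⁻¹ = z * x ^ (j ^ n) := by
    intro n
    induction n with
    | zero => exact ⟨1, one_mem _, by simp⟩
    | succ n ih =>
      obtain ⟨z, hz, hzn⟩ := ih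
      refine ⟨z * t ^ (j ^ n), mul_mem hz (zpow_mem ht _), ?_⟩
      calc u ^ (n + 1) * x * (u ^ (n + 1))⁻¹ = u * (u ^ n * x * (u ^ n)⁻¹) * u⁻¹ := by
            rw [pow_succ']; group
        _ = u * (z * x ^ (j ^ n)) * u⁻¹ := by rw [hzn]
        _ = (u ^ 1 * z * (u ^ 1)⁻¹) * (u * x * u⁻¹) ^ (j ^ n) := by rw [conj_zpow]; group
        _ = z * (t * x ^ j) ^ (j ^ n) := by rw [huz z hz 1, hj]
        _ = z * (t ^ (j ^ n) * (x ^ j) ^ (j ^ n)) := by
            rw [(hcomm (hZA ht) (zpow_mem hxA j)).mul_zpow]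
        _ = z * t ^ (j ^ n) * x ^ (j ^ (n + 1)) := by rw [← zpow_mul, pow_succ', mul_assoc]
  -- the action on `A / Z` is trivial
  have hj1 : x ^ j = x := by
    obtain ⟨k, hk⟩ := hP ⟨u, huP⟩
    have hk' : u ^ (p ^ k) = 1 := by simpa using congrArg Subtype.val hk
    obtain ⟨z, hz, hzk⟩ := hiter (p ^ k)
    rw [hk', one_mul, inv_one, mul_one] at hzk
    have h3 : x ^ (1 - j ^ (p ^ k) : ℤ) ∈ Z := by
      have h4 : x ^ (1 - j ^ (p ^ k) : ℤ) = z := by
        rw [zpow_sub, zpow_one]
        exact mul_inv_eq_iff_eq_mul.2 hzk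
      rw [h4]; exact hz
    have h5 : x ^ (1 - j ^ (p ^ k) : ℤ) = 1 := by
      by_contra h6
      exact hXZ (((zpowers_eq_of_card hX hx hx1).symm.trans (zpowers_eq_of_card (p := p)
        (by rw [← Nat.card_zpowers x] at hor; exact hor) (zpow_mem (mem_zpowers x) _) h6).symm).trans
        (zpowers_eq_of_card hZ h3 h6))
    rw [← orderOf_dvd_iff_zpow_eq_one, hor, ← ZMod.intCast_zmod_eq_zero_iff_dvd, Int.cast_sub,
      Int.cast_one, Int.cast_pow, ZMod.pow_card_pow, sub_eq_zero] at h5
    conv_rhs => rw [← zpow_one x]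
    rw [zpow_eq_zpow_iff_modEq, hor]
    exact (ZMod.intCast_eq_intCast_iff _ _ _).1 (by simpa using h5.symm)
  rw [hj1] at hj
  have ht1 : t ≠ 1 := by
    intro h
    rw [h, one_mul] at hj
    apply hun
    rw [mem_centralizer_iff]
    intro a ha
    obtain ⟨z, hz, i, rfl⟩ := dec a ha
    have h1 : Commute z u := mem_centralizer_iff.1 huZ z hz
    have h2 : Commute x u := (mul_inv_eq_iff_eq_mul.1 hj).symm
    exact (h1.mul_left (h2.zpow_left i)).eq
  have hpow : ∀ n : ℕ, u ^ n * x * (u ^ n)⁻¹ = t ^ n * x := by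
    intro n
    induction n with
    | zero => simp
    | succ n ih =>
      calc u ^ (n + 1) * x * (u ^ (n + 1))⁻¹ = u * (u ^ n * x * (u ^ n)⁻¹) * u⁻¹ := by
            rw [pow_succ']; group
        _ = u * (t ^ n * x) * u⁻¹ := by rw [ih]
        _ = (u ^ 1 * t ^ n * (u ^ 1)⁻¹) * (u * x * u⁻¹) := by group
        _ = t ^ (n + 1) * x := by rw [huz _ (pow_mem ht n) 1, hj, pow_succ]; group
  -- a generator of `X'` of the form `z * x`
  obtain ⟨y, hy, hy1⟩ := exists_mem_ne_one_of_card hX'
  obtain ⟨z, hz, i, hzi⟩ := dec y (hX'A hy)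
  have hi : ¬ ((p : ℤ) ∣ i) := by
    intro hd
    have hxi : x ^ i = 1 := by rwa [← orderOf_dvd_iff_zpow_eq_one, hor]
    rw [hxi, mul_one] at hzi
    exact hX'Z ((zpowers_eq_of_card hX' hy hy1).symm.trans (zpowers_eq_of_card hZ (hzi ▸ hz) hy1))
  obtain ⟨l, hl⟩ := ZMod.intCast_surjective ((i : ZMod p)⁻¹)
  have hil : x ^ (i * l) = x := by
    conv_rhs => rw [← zpow_one x]
    rw [zpow_eq_zpow_iff_modEq, hor]
    refine (ZMod.intCast_eq_intCast_iff _ _ _).1 ?_
    rw [Int.cast_mul, hl, Int.cast_one, mul_inv_cancel₀]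
    rwa [Ne, ZMod.intCast_zmod_eq_zero_iff_dvd]
  have hyl : y ^ l = z ^ l * x := by
    rw [hzi, (hcomm (hZA hz) (zpow_mem hxA i)).mul_zpow, ← zpow_mul, hil]
  have hzl : z ^ l ∈ zpowers t := by
    rw [zpowers_eq_of_card hZ ht ht1]
    exact zpow_mem hz l
  obtain ⟨n, hn⟩ := (isOfFinOrder_of_finite t).mem_powers_iff_mem_zpowers.2 hzl
  have hyl1 : y ^ l ≠ 1 := by
    rw [hyl]
    intro h
    have hx' : x ∈ Z := by rw [eq_inv_of_mul_eq_one_right h]; exact inv_mem (zpow_mem hz l)
    exact hXZ ((zpowers_eq_of_card hX hx hx1).symm.trans (zpowers_eq_of_card hZ hx' hx1))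
  refine ⟨u ^ n, pow_mem huP n, ?_⟩
  rw [← zpowers_eq_of_card hX' (zpow_mem hy l) hyl1, ← zpowers_eq_of_card hX hx hx1,
    MonoidHom.map_zpowers]
  congr 1
  simp only [MulEquiv.coe_toMonoidHom, MulAut.conj_apply]
  rw [hpow n, hyl]
  simp only at hn
  rw [hn]

/-- The derived subgroup of an odd solvable group acting on `A` of order `p ^ 2` centralizes `A`
when the automizer has order prime to `p`. -/
theorem commutator_le_centralizer_of_not_dvd {L A : Subgroup G} (hL : Group.IsSolvable L)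
    (hodd : Odd (Nat.card L)) (hA : Cfsg.IsElementaryAbelian p A) (hc : Nat.card A = p ^ 2)
    (hLA : L ≤ normalizer (A : Set G)) (hnd : ¬ p ∣ (centralizer (A : Set G)).relIndex L) :
    ⁅L, L⁆ ≤ centralizer (A : Set G) := by
  intro x hx
  have hxL : x ∈ L := commutator_le_self L hx
  have h := pow_mem_centralizer_of_mem_commutator_abelem_two p hL hodd hA hc hLA hx
  have hn : L ≤ normalizer ((centralizer (A : Set G) ⊓ L : Subgroup G) : Set G) :=
    (le_inf (hLA.trans (CfsgLib.OddOrder.normalizer_le_normalizer_centralizer_subgroup A))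
      le_normalizer).trans inf_normalizer_le_normalizer_inf
  haveI : ((centralizer (A : Set G)).subgroupOf L).Normal := by
    rw [← inf_subgroupOf_right]
    exact (normal_subgroupOf_iff_le_normalizer inf_le_right).2 hn
  have h2 : x ^ (centralizer (A : Set G)).relIndex L ∈ centralizer (A : Set G) := by
    have := pow_index_mem ((centralizer (A : Set G)).subgroupOf L) ⟨x, hxL⟩
    simpa [mem_subgroupOf, Subgroup.relIndex] using this
  have hg := Nat.gcd_eq_gcd_ab p ((centralizer (A : Set G)).relIndex L)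
  rw [(Nat.Prime.coprime_iff_not_dvd Fact.out).2 hnd] at hg
  rw [← zpow_one x, show (1 : ℤ) = _ from hg, zpow_add, zpow_mul, zpow_mul, zpow_natCast,
    zpow_natCast]
  exact mul_mem (zpow_mem h _) (zpow_mem h2 _)

/-- A `p`-element acting as a transvection on `A` of order `p ^ 2` fixes a line normalized by
every odd solvable group containing it that normalizes `A`. -/
theorem le_normalizer_inf_centralizer {L A : Subgroup G} (hL : Group.IsSolvable L)
    (hodd : Odd (Nat.card L)) (hA : Cfsg.IsElementaryAbelian p A) (hc : Nat.card A = p ^ 2)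
    (hLA : L ≤ normalizer (A : Set G)) {u : G} (hu : u ∈ L) (hup : IsPGroup p (zpowers u))
    (hun : u ∉ centralizer (A : Set G)) :
    L ≤ normalizer ((A ⊓ centralizer ({u} : Set G) : Subgroup G) : Set G) := by
  have h1 := card_inf_centralizer_eq hA hc (hLA hu) hup hun
  obtain ⟨T, huT, hT⟩ := ConjFunctor.exists_isSylowIn_ge (zpowers_le.2 hu) hup
  set C := L ⊓ centralizer (A : Set G) with hC
  set D := ⁅L, L⁆ with hD
  have hDL : D ≤ L := commutator_le_self L
  have hCn : L ≤ normalizer (C : Set G) :=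
    (le_inf le_normalizer (hLA.trans
      (CfsgLib.OddOrder.normalizer_le_normalizer_centralizer_subgroup A))).trans
      inf_normalizer_le_normalizer_inf
  have hCL : C ≤ L := inf_le_left
  set K := T ⊔ C with hK
  have hKL : K ≤ L := sup_le hT.le hCL
  have hDK : D ≤ K := by
    have hTD := hT.inf_of_normal hDL ((le_normalizer_iff_commutator_le_left).2
      (commutator_mono hDL le_rfl) |>.trans le_rfl)
    have key : D ≤ (T ⊓ D) ⊔ (C ⊓ D) := by
      set W := (T ⊓ D) ⊔ (C ⊓ D) with hW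
      have hWD : W ≤ D := sup_le inf_le_right inf_le_right
      haveI : ((C ⊓ D).subgroupOf D).Normal :=
        (normal_subgroupOf_iff_le_normalizer inf_le_right).2
          ((le_inf (hDL.trans hCn) le_normalizer).trans inf_normalizer_le_normalizer_inf)
      have hpg : ∀ q : ℕ, q.Prime → q ∣ (C ⊓ D).relIndex D → q = p := by
        intro q hq hqd
        haveI := Fact.mk hq
        obtain ⟨g, hg⟩ := exists_prime_orderOf_dvd_card' (G := D ⧸ (C ⊓ D).subgroupOf D) q
          (by rwa [← index_eq_card])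
        obtain ⟨d, rfl⟩ := QuotientGroup.mk_surjective g
        have h2 : ((d : D ⧸ (C ⊓ D).subgroupOf D)) ^ p = 1 := by
          rw [← QuotientGroup.mk_pow, QuotientGroup.eq_one_iff]
          have hx : (d : G) ^ p ∈ C ⊓ D := ⟨⟨pow_mem (hDL d.2) p,
            pow_mem_centralizer_of_mem_commutator_abelem_two p hL hodd hA hc hLA d.2⟩,
            pow_mem d.2 p⟩
          simpa [mem_subgroupOf] using hx.1
        have h3 : q ∣ p := hg ▸ orderOf_dvd_of_pow_eq_one h2
        exact (Nat.prime_dvd_prime_iff_eq hq Fact.out).1 h3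
      refine (Subgroup.eq_of_le_of_card_ge hWD ?_).ge
      have hd1 : (C ⊓ D).relIndex D * Nat.card ↥(C ⊓ D) = Nat.card D := by
        rw [mul_comm]; exact PLocal.card_mul_relIndex inf_le_right
      have hd2 : (T ⊓ D).relIndex D * Nat.card ↥(T ⊓ D) = Nat.card D := by
        rw [mul_comm]; exact PLocal.card_mul_relIndex inf_le_right
      refine Nat.le_of_dvd Nat.card_pos ?_
      have hcop : ((C ⊓ D).relIndex D).Coprime ((T ⊓ D).relIndex D) :=
        Nat.coprime_of_dvd fun q hq h3 h4 => hTD.not_dvd (hpg q hq h3 ▸ h4)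
      have hdv1 : W.relIndex D ∣ (C ⊓ D).relIndex D :=
        relIndex_dvd_of_le_left _ le_sup_right
      have hdv2 : W.relIndex D ∣ (T ⊓ D).relIndex D :=
        relIndex_dvd_of_le_left _ le_sup_left
      have hone : W.relIndex D = 1 := Nat.eq_one_of_dvd_coprimes hcop hdv1 hdv2
      have := PLocal.card_mul_relIndex hWD
      rw [hone, mul_one] at this
      rw [this]
    exact key.trans (sup_le (inf_le_left.trans le_sup_left) (inf_le_left.trans le_sup_right))
  have hKn : L ≤ normalizer (K : Set G) :=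
    le_normalizer_iff_commutator_le_left.2 ((commutator_mono hKL le_rfl).trans hDK)
  have hKF : A ⊓ centralizer (K : Set G) ≠ ⊥ := by
    -- the `p`-group `T` fixes a nontrivial element of `A`, which `C` centralizes
    have hn : T ≤ normalizer (A : Set G) := hT.le.trans hLA
    have hP : IsPGroup p ↥(A ⊔ T) :=
      IsPGroup.to_sup_of_normal_left' (isPGroup_of_isElementaryAbelian hA) hT.isPGroup hn
    haveI : (A.subgroupOf (A ⊔ T)).Normal :=
      (normal_subgroupOf_iff_le_normalizer le_sup_left).2 (sup_le le_normalizer hn)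
    have hA' : A.subgroupOf (A ⊔ T) ≠ ⊥ := by
      intro h
      have h2 := congrArg (Subgroup.map (A ⊔ T).subtype) h
      rw [map_subgroupOf_eq_of_le le_sup_left, Subgroup.map_bot] at h2
      rw [h2, card_bot] at hc
      exact (Nat.one_lt_pow two_ne_zero (Fact.out : p.Prime).one_lt).ne hc
    obtain ⟨z, hz, hzc, hzo⟩ := BG4.exists_central_orderOf_prime hP hA'
    intro h
    have hmem : (z : G) ∈ A ⊓ centralizer (K : Set G) := by
      refine ⟨hz, ?_⟩
      have hsub : K ≤ centralizer ({(z : G)} : Set G) := by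
        refine sup_le (fun t ht => mem_centralizer_singleton_iff.2 ?_) (fun c hc' => ?_)
        · exact congrArg Subtype.val (mem_center_iff.1 hzc ⟨t, mem_sup_right ht⟩)
        · exact mem_centralizer_singleton_iff.2 (mem_centralizer_iff.1 hc'.2 z hz).symm
      refine mem_centralizer_iff.2 fun k hk => ?_
      exact mem_centralizer_singleton_iff.1 (hsub hk)
    rw [h, mem_bot] at hmem
    rw [← Subgroup.orderOf_coe, hmem, orderOf_one] at hzo
    exact (Fact.out : p.Prime).ne_one hzo.symm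
  have hle : A ⊓ centralizer (K : Set G) ≤ A ⊓ centralizer ({u} : Set G) :=
    inf_le_inf_left _ (centralizer_le
      (Set.singleton_subset_iff.2 (mem_sup_left (huT (mem_zpowers u)))))
  have heq : A ⊓ centralizer (K : Set G) = A ⊓ centralizer ({u} : Set G) := by
    refine eq_of_le_of_card_ge hle ?_
    rw [h1]
    have hd := h1 ▸ card_dvd_of_le hle
    rcases (Nat.dvd_prime (Fact.out : p.Prime)).1 hd with h | h
    · exact absurd (Subgroup.card_eq_one.1 h) hKF
    · rw [h]
  rw [← heq]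
  exact (le_inf hLA (hKn.trans
    (CfsgLib.OddOrder.normalizer_le_normalizer_centralizer_subgroup K))).trans
    inf_normalizer_le_normalizer_inf

/-- An elementary abelian group of order `p ^ 2` maximal in a `p`-group with `P / A` as stated is
complemented: `P` is abelian. -/
theorem isMulCommutative_of_not_le_frattini {P A : Subgroup G} (hP : IsPGroup p P) (hp2 : p ≠ 2)
    (hAP : A ≤ P) (hA : Cfsg.IsElementaryAbelian p A) (hc : Nat.card A = p ^ 2)
    (hmax : MaxElem p A) (hcent : P ≤ centralizer (A : Set G))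
    (hfr : ¬ A ≤ (frattini P).map P.subtype) : IsMulCommutative P := by
  obtain ⟨a, ha, han⟩ := SetLike.not_le_iff_exists.1 hfr
  have han' : (⟨a, hAP ha⟩ : P) ∉ frattini P := fun h => han ⟨_, h, rfl⟩
  simp only [frattini, Order.radical, mem_iInf, not_forall] at han'
  obtain ⟨K, hK, haK⟩ := han'
  set K' := K.map P.subtype with hK'
  have hK'P : K' ≤ P := map_subtype_le _
  have haK' : a ∉ K' := by
    rintro ⟨y, hy, hye⟩
    exact haK ((Subtype.ext hye : y = (⟨a, hAP ha⟩ : P)) ▸ hy)
  have hcyc : IsCyclic K' := by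
    refine isCyclic_of_omega_le (Z := A ⊓ K') (hP.to_le hK'P) hp2 ?_ fun x hx hxp =>
      ⟨hmax.mem hA hxp (hcent (hK'P hx)), hx⟩
    by_cases h : A ⊓ K' = ⊥
    · rw [h, card_bot]; exact (Fact.out : p.Prime).one_lt.le
    · exact le_of_eq (card_eq_of_lt_of_ne_bot hc
        (lt_of_le_of_ne inf_le_left fun h' => haK' ((inf_eq_left.1 h') ha)) h)
  have htop : K' ⊔ zpowers a = P := by
    have h1 : K ⊔ zpowers (⟨a, hAP ha⟩ : P) = ⊤ := by
      refine hK.lt_iff.1 (lt_of_le_of_ne le_sup_left fun h => haK ?_)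
      rw [h]; exact mem_sup_right (mem_zpowers _)
    have h2 := congrArg (Subgroup.map P.subtype) h1
    rwa [Subgroup.map_sup, MonoidHom.map_zpowers, ← MonoidHom.range_eq_map, range_subtype] at h2
  have hac : zpowers a ≤ centralizer (K' : Set G) := zpowers_le.2 (mem_centralizer_iff.2 fun k hk =>
    (mem_centralizer_iff.1 (hcent (hK'P hk)) a ha).symm)
  haveI := hcyc.isMulCommutative
  rw [← htop, ← le_centralizer_iff_isMulCommutative, PLocal.centralizer_sup]
  refine le_inf (sup_le (le_centralizer_iff_isMulCommutative.2 inferInstance) hac)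
    (sup_le (le_centralizer_iff.1 hac) (le_centralizer_iff_isMulCommutative.2 inferInstance))

end CfsgLib.OddOrder.BG11
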