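import Cfsg.Agent.OddOrder.BG3.Rfix0
import Cfsg.Agent.OddOrder.BG8.Fitting
import Cfsg.Agent.LocalStructure.Tools

/-!
# BG 3.4 for a nilpotent group, and commuting primary parts of nilpotent groups
-/

set_option autoImplicit false
set_option linter.style.haveILetI false

namespace CfsgLib.OddOrder.BG11

open CfsgLib.OddOrder.Stab (frattini_facts map_subtype_conj_mem)

open Cfsg Subgroup
open scoped commutatorElement

variable {G : Type*} [Group G] [Finite G]

/-- BG 3.4 along the Frattini quotient of an `ℓ`-group. -/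
theorem commutator_le_centralizer_pGroup_of_rfix0 {ℓ : ℕ} [Fact ℓ.Prime] {K R V : Subgroup G}
    (hV : IsPGroup ℓ V) (hsolv : Group.IsSolvable K) (hRK : R ≤ normalizer (K : Set G))
    (hKV : K ≤ normalizer (V : Set G)) (hRV : R ≤ normalizer (V : Set G))
    (hr : (Nat.card R).Prime) (hr2 : Nat.card R ≠ 2) (hrl : Nat.card R ≠ ℓ)
    (hKodd : Odd (Nat.card K)) (hKl : (Nat.card K).Coprime ℓ)
    (hKr : (Nat.card R).Coprime (Nat.card K)) (hfix : V ⊓ centralizer (R : Set G) = ⊥) :
    ⁅K, R⁆ ≤ centralizer (V : Set G) := by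
  set N := normalizer (V : Set G) with hN
  set Φ := (frattini V).map V.subtype with hΦ
  have hVN : V ≤ N := le_normalizer
  have hΦV : Φ ≤ V := map_subtype_le _
  have hΦN : ∀ g ∈ N, ∀ x ∈ Φ, g * x * g⁻¹ ∈ Φ := fun g hg x hx => map_subtype_conj_mem _ hg hx
  haveI : (Φ.subgroupOf N).Normal := ⟨fun x hx g => hΦN g g.2 x hx⟩
  set f := QuotientGroup.mk' (Φ.subgroupOf N) with hf
  set K₁ := K.subgroupOf N
  set R₁ := R.subgroupOf N
  set V₁ := V.subgroupOf N
  have hRcl : (Nat.card R).Coprime ℓ :=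
    (Nat.coprime_primes hr (Fact.out : ℓ.Prime)).2 hrl
  obtain ⟨n, hn⟩ := IsPGroup.iff_card.1 hV
  have hcRV : (Nat.card R).Coprime (Nat.card V) := hn ▸ hRcl.pow_right n
  have hcK : Nat.card K₁ = Nat.card K := Nat.card_congr (subgroupOfEquivOfLe hKV).toEquiv
  have hcR : Nat.card R₁ = Nat.card R := Nat.card_congr (subgroupOfEquivOfLe hRV).toEquiv
  -- the image of `R` has the same order
  have hRinj : Nat.card (R₁.map f) = Nat.card R := by
    have hbot : R₁ ⊓ f.ker = ⊥ := by
      apply Subgroup.inf_eq_bot_of_coprime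
      rw [hcR, hf, QuotientGroup.ker_mk', Nat.card_congr (subgroupOfEquivOfLe (hΦV.trans hVN)).toEquiv]
      exact hcRV.coprime_dvd_right (card_dvd_of_le hΦV)
    rw [← hcR]
    refine (Nat.card_congr (Equiv.ofBijective
      (fun x : R₁ => (⟨f x, mem_map_of_mem f x.2⟩ : R₁.map f)) ⟨fun a b hab => ?_, ?_⟩)).symm
    · have h1 : ((a : N))⁻¹ * b ∈ R₁ ⊓ f.ker :=
        Subgroup.mem_inf.2 ⟨mul_mem (inv_mem a.2) b.2, MonoidHom.mem_ker.2 (by
          rw [map_mul, map_inv, show f a = f b from congrArg Subtype.val hab,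
            inv_mul_cancel])⟩
      rw [hbot, mem_bot] at h1
      exact Subtype.ext (inv_mul_eq_one.1 h1)
    · rintro ⟨_, x, hx, rfl⟩
      exact ⟨⟨x, hx⟩, rfl⟩
  have hVel : Cfsg.IsElementaryAbelian ℓ (V₁.map f) := by
    refine ⟨⟨⟨?_⟩⟩, ?_⟩
    · rintro ⟨_, a, ha, rfl⟩ ⟨_, b, hb, rfl⟩
      apply Subtype.ext
      show f a * f b = f b * f a
      rw [← commutatorElement_eq_one_iff_mul_comm, ← map_commutatorElement, hf,
        QuotientGroup.mk'_apply, QuotientGroup.eq_one_iff]
      exact ⟨⁅(⟨_, ha⟩ : V), (⟨_, hb⟩ : V)⁆, (frattini_facts hV).1 _ _, rfl⟩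
    · rintro _ ⟨a, ha, rfl⟩
      rw [← map_pow, hf, QuotientGroup.mk'_apply, QuotientGroup.eq_one_iff]
      exact ⟨(⟨_, ha⟩ : V) ^ ℓ, (frattini_facts hV).2.1 _, rfl⟩
  have hsol' : Group.IsSolvable (K₁.map f) := by
    haveI := hsolv
    haveI : Group.IsSolvable K₁ := Group.isSolvable_of_isSolvable_injective
      (f := (subgroupOfEquivOfLe hKV).toMonoidHom) (subgroupOfEquivOfLe hKV).injective
    exact Group.isSolvable_of_surjective (f.subgroupMap_surjective K₁)
  have hn1 : ∀ {A B : Subgroup G}, A ≤ N → A ≤ normalizer (B : Set G) →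
      (A.subgroupOf N).map f ≤ normalizer (((B.subgroupOf N).map f : Subgroup _) : Set _) := by
    intro A B hAN h
    refine le_trans (map_mono ?_) (le_normalizer_map _)
    intro a ha
    rw [mem_normalizer_iff]
    intro x
    simp only [mem_subgroupOf, Subgroup.coe_mul, Subgroup.coe_inv]
    exact mem_normalizer_iff.1 (h ha) x
  have hKd : Nat.card (K₁.map f) ∣ Nat.card K := hcK ▸ card_map_dvd K₁ f
  have hfix' : V₁.map f ⊓ centralizer ((R₁.map f : Subgroup _) : Set _) = ⊥ := by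
    have hker : V₁ ⊓ f.ker = Φ.subgroupOf N := by
      rw [hf, QuotientGroup.ker_mk', inf_eq_right]
      exact comap_mono hΦV
    rw [← Coprime.map_inf_centralizer f (A := R₁) (G := V₁) ?_ ?_ ?_]
    · rw [eq_bot_iff]
      rintro _ ⟨x, ⟨hx1, hx2⟩, rfl⟩
      have : (x : G) ∈ V ⊓ centralizer (R : Set G) := ⟨hx1, mem_centralizer_iff.2 fun r hr =>
        congrArg Subtype.val (mem_centralizer_iff.1 hx2 ⟨r, hRV hr⟩ hr)⟩
      rw [hfix, mem_bot] at this
      rw [show x = 1 from Subtype.ext this, map_one]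
      exact one_mem _
    · intro a ha
      rw [mem_normalizer_iff]
      intro x
      simp only [V₁, mem_subgroupOf, Subgroup.coe_mul, Subgroup.coe_inv]
      exact mem_normalizer_iff.1 (hRV ha) x
    · rw [hker, hcR, Nat.card_congr (subgroupOfEquivOfLe (hΦV.trans hVN)).toEquiv]
      exact hcRV.coprime_dvd_right (card_dvd_of_le hΦV)
    · rw [hker]
      refine Or.inr ?_
      haveI : Group.IsNilpotent ↥(Φ.subgroupOf N) :=
        ((hV.to_le hΦV).comap_subtype (K := N)).isNilpotent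
      infer_instance
  have h := commutator_le_centralizer_of_rfix0 (X := N ⧸ Φ.subgroupOf N) ℓ (K := K₁.map f)
    (R := R₁.map f) hVel hsol' (hn1 hRV hRK) (hn1 hKV hKV) (hn1 hRV hRV) (hRinj ▸ hr)
    (hRinj ▸ hr2) (hRinj ▸ hrl) (hKodd.of_dvd_nat hKd) (hKl.coprime_dvd_left hKd)
    (hRinj.symm ▸ hKr.coprime_dvd_right hKd) hfix'
  rw [← map_commutator] at h
  have hKR : ⁅K, R⁆ ≤ K := Coprime.commutator_le_of_le_normalizer hRK
  refine Coprime.le_centralizer_of_commutator_le_frattini (hKR.trans hKV) ?_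
    (commutator_le.2 fun v hv k hk => ?_)
  · refine (Nat.Coprime.coprime_dvd_left (card_dvd_of_le hKR) ?_).coprime_dvd_right
      (card_subgroup_dvd_card _)
    exact hn ▸ hKl.pow_right n
  · have hkN : k ∈ N := hKV (hKR hk)
    have hk' : (⟨k, hkN⟩ : N) ∈ ⁅K₁, R₁⁆ := by
      have he : ⁅K₁, R₁⁆.map N.subtype = ⁅K, R⁆ := by
        rw [map_commutator, map_subgroupOf_eq_of_le hKV, map_subgroupOf_eq_of_le hRV]
      rw [← he] at hk
      obtain ⟨k', hk', e⟩ := hk
      rwa [show (⟨k, hkN⟩ : N) = k' from Subtype.ext e.symm]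
    have hc := mem_centralizer_iff.1 (h (mem_map_of_mem f hk')) (f ⟨v, hVN hv⟩)
      (mem_map_of_mem f (show (⟨v, hVN hv⟩ : N) ∈ V₁ from hv))
    rw [← commutatorElement_eq_one_iff_mul_comm, ← map_commutatorElement, hf,
      QuotientGroup.mk'_apply, QuotientGroup.eq_one_iff, mem_subgroupOf] at hc
    exact hc

/-- Coprime-order subgroups of a nilpotent group commute. -/
theorem le_centralizer_of_coprime_nilpotent {L A B : Subgroup G} (hL : Group.IsNilpotent L)
    (hA : A ≤ L) (hB : B ≤ L) (hcop : (Nat.card A).Coprime (Nat.card B)) :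
    A ≤ centralizer (B : Set G) := by
  set π := {q : ℕ | q ∣ Nat.card A}
  set ρ := {q : ℕ | q ∣ Nat.card B ∧ ¬ q ∣ Nat.card A}
  have hd : Disjoint π ρ := Set.disjoint_left.2 fun q hq hq' => hq'.2 hq
  have hA' := nilpotent_le_piCoreOf hL hA (π := π) fun q _ hq => hq
  have hB' := nilpotent_le_piCoreOf hL hB (π := ρ) fun q hq hqd =>
    ⟨hqd, fun h => hq.ne_one (Nat.eq_one_of_dvd_coprimes hcop h hqd)⟩
  exact hA'.trans ((piCoreOf_le_centralizer_piCoreOf L hd).trans (centralizer_le hB'))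

/-- BG 3.4 for a nilpotent group acted on. -/
theorem commutator_le_centralizer_nilpotent_of_rfix0 {K R V : Subgroup G}
    (hV : Group.IsNilpotent V) (hsolv : Group.IsSolvable K) (hRK : R ≤ normalizer (K : Set G))
    (hKV : K ≤ normalizer (V : Set G)) (hRV : R ≤ normalizer (V : Set G))
    (hr : (Nat.card R).Prime) (hr2 : Nat.card R ≠ 2)
    (hKodd : Odd (Nat.card K)) (hKl : (Nat.card K).Coprime (Nat.card V))
    (hRl : (Nat.card R).Coprime (Nat.card V))
    (hKr : (Nat.card R).Coprime (Nat.card K)) (hfix : V ⊓ centralizer (R : Set G) = ⊥) :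
    ⁅K, R⁆ ≤ centralizer (V : Set G) := by
  haveI := hV
  have htop := Solvable.iSup_sylow_eq_top (G := V)
    (fun q => Classical.arbitrary (Sylow (q : ℕ) V))
  have he := congrArg (Subgroup.map V.subtype) htop
  rw [← MonoidHom.range_eq_map, range_subtype, Subgroup.map_iSup] at he
  refine le_centralizer_iff.1 (he.ge.trans (iSup_le fun q => ?_))
  have hq := Nat.mem_primeFactors.1 q.2
  haveI := Fact.mk hq.1
  set S := Classical.arbitrary (Sylow (q : ℕ) V)
  set S' := (S : Subgroup V).map V.subtype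
  haveI : (S : Subgroup V).Normal := by infer_instance
  haveI : (S : Subgroup V).Characteristic := S.characteristic_of_normal inferInstance
  have hN : normalizer (V : Set G) ≤ normalizer (S' : Set G) := fun g hg =>
    LocalStructure.mem_normalizer_of_forall fun y hy => map_subtype_conj_mem _ hg hy
  refine le_centralizer_iff.1 (commutator_le_centralizer_pGroup_of_rfix0 (S.isPGroup'.map _) hsolv
    hRK (hKV.trans hN) (hRV.trans hN) hr hr2 ?_ hKodd ?_ hKr ?_)
  · intro hh
    exact hq.1.ne_one (Nat.eq_one_of_dvd_coprimes hRl (hh ▸ dvd_rfl) hq.2.1)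
  · exact hKl.coprime_dvd_right hq.2.1
  · rw [eq_bot_iff, ← hfix]
    exact inf_le_inf_right _ (map_subtype_le _)

end CfsgLib.OddOrder.BG11
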