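import Cfsg.Agent.OddOrder.Setup
import Cfsg.Agent.OddOrder.BG11.Groups
import Cfsg.Agent.OddOrder.BG4.RankTwoSolvable
import Cfsg.Agent.Transfer.Fusion
import Cfsg.Agent.Solvable.Hall
import Cfsg.Agent.LocalStructure.Tools
import Cfsg.Agent.OddOrder.BG11.Rfix

/-!
# The facts of BG 8-10 used in BG 11-12, and elementary properties of `σ(M)`, `M_σ`

`BG10Facts G` collects, for a fixed group, the statements S1350, S1403, S1404, S1405, S1408, S1410,
S1412 and S1414 (in the parts used here).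
-/

set_option autoImplicit false
set_option linter.style.haveILetI false
set_option linter.unusedSectionVars false

namespace CfsgLib.OddOrder.BG11

open Cfsg Subgroup
open CfsgLib.ConjFunctor (IsSylowIn exists_isSylowIn_ge)
open scoped CfsgLib.ConjFunctor
open scoped commutatorElement

/-- The results of BG 8-10 used in BG 11-12. -/
structure BG10Facts (G : Type*) [Group G] : Prop where
  /-- BG 10.2 (S1350). -/
  sigmaHall : ∀ M : Subgroup G, IsCoatom M →
    Cfsg.IsPiHallOf (Cfsg.sigma M) (Cfsg.sigmaCore M) M ∧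
      Cfsg.IsPiHall (Cfsg.sigma M) (Cfsg.sigmaCore M)
  /-- BG 10.2 (S1405). -/
  alphaHall : ∀ M : Subgroup G, IsCoatom M →
    Cfsg.IsPiHallOf (Cfsg.alpha M) (Cfsg.alphaCore M) M ∧
      Cfsg.alphaCore M ≤ Cfsg.sigmaCore M ∧
      Group.IsNilpotent
        ↥((commutator ↥M).map (QuotientGroup.mk' (Cfsg.piCore (Cfsg.alpha M) ↥M)))
  /-- BG 10.1 (S1404). -/
  fusion : ∀ M : Subgroup G, IsCoatom M → ∀ (p : ℕ) [Fact p.Prime], p ∈ Cfsg.sigma M →
    ∀ X : Subgroup G, IsPGroup p X → X ≠ ⊥ → X ≤ M →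
      ∀ g : G, X.map (MulAut.conj g).toMonoidHom ≤ M →
        ∃ m ∈ M, ∃ c ∈ Subgroup.centralizer (X : Set G), g = m * c
  /-- BG 10.4 (S1408). -/
  rankTwo : ∀ M : Subgroup G, IsCoatom M → ∀ (p : ℕ) [Fact p.Prime], p ∉ Cfsg.sigma M →
    Cfsg.PRankLE p 2 M → ¬ Cfsg.PRankLE p 1 M →
      ¬ Cfsg.IsIdealPrime p G ∧ ∀ A : Subgroup G, A ≤ M → Cfsg.IsElementaryAbelian p A →
        Nat.card A = p ^ 2 → ∀ B : Subgroup G, Cfsg.IsElementaryAbelian p B → A ≤ B → B = A
  /-- BG 10.6 (S1410). -/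
  pLengthOne : ∀ (p : ℕ) [Fact p.Prime], ∀ H : Subgroup G, H ≠ ⊤ → Cfsg.PLengthLE p 1 H
  /-- BG 10.7 (S1412). -/
  rankTwoSylow : ∀ (p : ℕ) [Fact p.Prime] (P : Sylow p G), Cfsg.PRankLE p 2 (P : Subgroup G) →
    IsMulCommutative (P : Subgroup G) ∨ ∃ P₁ P₂ : Subgroup G, P₁ ⊔ P₂ = (P : Subgroup G) ∧
      (∀ a ∈ P₁, ∀ b ∈ P₂, a * b = b * a) ∧ ¬ IsMulCommutative P₁ ∧ Nat.card P₁ = p ^ 3 ∧
      Monoid.exponent P₁ = p ∧ IsCyclic P₂ ∧
      Subgroup.closure {x : G | x ∈ P₂ ∧ x ^ p = 1} = P₁ ⊓ Subgroup.centralizer (P₁ : Set G)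
  /-- BG 10.8 (S1414). -/
  betaHall : ∀ M : Subgroup G, IsCoatom M →
    (∃ H : Subgroup G, Cfsg.IsPiHallOf {q | q.Prime ∧ q ∉ Cfsg.beta M} H ⁅M, M⁆ ∧
      Group.IsNilpotent H) ∧
    ∀ p : ℕ, p.Prime → p ∣ Nat.card M → p ∉ Cfsg.beta M →
      Cfsg.HasNormalPComplement p ↥(Cfsg.sigmaCore M)
  /-- BG 9.6 (S1403). -/
  uniqueness : ∀ K : Subgroup G, K ≠ ⊤ → ¬ Cfsg.RankLE 1 K →
    (¬ Cfsg.RankLE 2 K ∨ ¬ Cfsg.RankLE 2 (Subgroup.centralizer (K : Set G))) →
      Cfsg.InUniqueMaximal K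

variable {G : Type*} [Group G] [Finite G] {p q : ℕ} {M H : Subgroup G}

/-! ### Sylow subgroups of subgroups -/

theorem isSylowIn_map_subtype [Fact p.Prime] (P : Sylow p M) :
    IsSylowIn p ((P : Subgroup M).map M.subtype) M := by
  refine ⟨map_subtype_le _, P.2.map _, ?_⟩
  rw [Subgroup.relIndex, show ((P : Subgroup M).map M.subtype).subgroupOf M = P from
    comap_map_eq_self_of_injective M.subtype_injective _]
  exact P.not_dvd_index

theorem exists_isSylowIn [Fact p.Prime] (M : Subgroup G) : ∃ T, IsSylowIn p T M :=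
  ⟨_, isSylowIn_map_subtype (default : Sylow p M)⟩

theorem dvd_card_sylowIn [Fact p.Prime] {T : Subgroup G} (hT : IsSylowIn p T M)
    (hp : p ∣ Nat.card M) : p ∣ Nat.card T := by
  have h := PLocal.card_mul_relIndex hT.le
  rw [← h] at hp
  exact ((Fact.out : p.Prime).dvd_mul.1 hp).resolve_right hT.not_dvd

theorem sylowIn_ne_bot [Fact p.Prime] {T : Subgroup G} (hT : IsSylowIn p T M)
    (hp : p ∣ Nat.card M) : T ≠ ⊥ := by
  rintro rfl
  exact (Fact.out : p.Prime).not_dvd_one (by simpa using dvd_card_sylowIn hT hp)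

theorem isSylowIn_sylowTop_le [Fact p.Prime] {T : Subgroup G} (hT : IsSylowIn p T ⊤)
    (hTM : T ≤ M) : IsSylowIn p T M :=
  hT.of_le hTM le_top

theorem le_of_isPGroup_of_le_sylowIn [Fact p.Prime] {T P : Subgroup G} (hT : IsSylowIn p T M)
    (hP : IsPGroup p P) (hTP : T ≤ P) (hPM : P ≤ M) : P ≤ T :=
  (hT.eq_of_le hTP hPM hP).le

/-! ### `σ(M)` -/

theorem sigma_prime (h : p ∈ Cfsg.sigma M) : p.Prime := h.1

theorem dvd_card_of_sigma (h : p ∈ Cfsg.sigma M) : p ∣ Nat.card M := h.2.1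

theorem normalizer_le_of_sigma [Fact p.Prime] (h : p ∈ Cfsg.sigma M) {T : Subgroup G}
    (hT : IsSylowIn p T M) : normalizer (T : Set G) ≤ M := by
  obtain ⟨P, hP⟩ := h.2.2
  obtain ⟨a, ha, haT⟩ := hT.exists_cj_eq (isSylowIn_map_subtype P)
  rw [← haT, ConjFunctor.normalizer_cj]
  exact (map_mono hP).trans (map_conj_eq_self_of_mem ha).le

theorem sigma_of_normalizer_le [Fact p.Prime] (hp : p ∣ Nat.card M) {T : Subgroup G}
    (hT : IsSylowIn p T M) (hN : normalizer (T : Set G) ≤ M) : p ∈ Cfsg.sigma M := by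
  refine ⟨Fact.out, hp, default, ?_⟩
  obtain ⟨a, ha, haT⟩ := (isSylowIn_map_subtype (default : Sylow p M)).exists_cj_eq hT
  rw [← haT, ConjFunctor.normalizer_cj]
  exact (map_mono hN).trans (map_conj_eq_self_of_mem ha).le

theorem not_normalizer_le [Fact p.Prime] (hp : p ∣ Nat.card M) (hs : p ∉ Cfsg.sigma M)
    {T : Subgroup G} (hT : IsSylowIn p T M) : ∃ g ∈ normalizer (T : Set G), g ∉ M :=
  SetLike.not_le_iff_exists.1 fun h => hs (sigma_of_normalizer_le hp hT h)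

theorem sigma_map_conj_le (M : Subgroup G) (g : G) :
    Cfsg.sigma M ⊆ Cfsg.sigma (M.map (MulAut.conj g).toMonoidHom) := by
  intro r hr
  haveI := Fact.mk hr.1
  obtain ⟨T, hT⟩ := exists_isSylowIn (p := r) M
  refine sigma_of_normalizer_le (T := T.map (MulAut.conj g).toMonoidHom) ?_ (hT.cj g) ?_
  · rw [card_map_conj]; exact hr.2.1
  · rw [ConjFunctor.normalizer_cj]
    exact map_mono (normalizer_le_of_sigma hr hT)

theorem sigma_map_conj (M : Subgroup G) (g : G) :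
    Cfsg.sigma (M.map (MulAut.conj g).toMonoidHom) = Cfsg.sigma M := by
  refine Set.Subset.antisymm ?_ (sigma_map_conj_le M g)
  have h := sigma_map_conj_le (M.map (MulAut.conj g).toMonoidHom) g⁻¹
  rwa [map_conj_map_conj, inv_mul_cancel, map_conj_one] at h

theorem sigmaCore_le (M : Subgroup G) : Cfsg.sigmaCore M ≤ M := map_subtype_le _

theorem le_normalizer_sigmaCore (M : Subgroup G) :
    M ≤ normalizer (Cfsg.sigmaCore M : Set G) :=
  le_normalizer_piCoreOf (Cfsg.sigma M) M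

theorem isPiSubgroup_sigmaCore (M : Subgroup G) :
    IsPiSubgroup (Cfsg.sigma M) (Cfsg.sigmaCore M) :=
  isPiSubgroup_piCoreOf (Cfsg.sigma M) M

/-- A normal Hall subgroup contains the `π`-subgroups. -/
theorem le_of_isPiHallOf_normal {π : Set ℕ} {N Y : Subgroup G} (hN : Cfsg.IsPiHallOf π N M)
    (hn : M ≤ normalizer (N : Set G)) (hYM : Y ≤ M) (hY : IsPiSubgroup π Y) : Y ≤ N := by
  have h1 : IsPiSubgroup π (Y ⊔ N) := isPiSubgroup_sup (hYM.trans hn) hY hN.2.1
  have h2 : N.subgroupOf M = (Y ⊔ N).subgroupOf M :=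
    Solvable.eq_of_isPiHall_le ⟨isPiSubgroup_subgroupOf hN.2.1, hN.2.2⟩
      (isPiSubgroup_subgroupOf h1) (comap_mono le_sup_right)
  intro y hy
  have h3 : (⟨y, hYM hy⟩ : M) ∈ (Y ⊔ N).subgroupOf M := mem_sup_left hy
  rw [← h2] at h3
  exact h3

variable (F : BG10Facts G)
include F

theorem le_sigmaCore (hM : IsCoatom M) {Y : Subgroup G} (hYM : Y ≤ M)
    (hY : IsPiSubgroup (Cfsg.sigma M) Y) : Y ≤ Cfsg.sigmaCore M :=
  le_of_isPiHallOf_normal (F.sigmaHall M hM).1 (le_normalizer_sigmaCore M) hYM hY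

theorem pGroup_le_sigmaCore [Fact p.Prime] (hM : IsCoatom M) (hp : p ∈ Cfsg.sigma M)
    {Y : Subgroup G} (hYM : Y ≤ M) (hY : IsPGroup p Y) : Y ≤ Cfsg.sigmaCore M :=
  le_sigmaCore F hM hYM (isPiSubgroup_of_isPGroup hY hp)

theorem pGroup_inf_sigmaCore [Fact p.Prime] (hp : p ∉ Cfsg.sigma M)
    {Y : Subgroup G} (hY : IsPGroup p Y) : Y ⊓ Cfsg.sigmaCore M = ⊥ := by
  refine inf_eq_bot_of_isPiSubgroup (isPiSubgroup_of_isPGroup (π := ({p} : Set ℕ)) hY rfl)
    (isPiSubgroup_sigmaCore M) (Set.disjoint_singleton_left.2 hp)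

theorem coprime_sigmaCore [Fact p.Prime] (hp : p ∉ Cfsg.sigma M) :
    p.Coprime (Nat.card (Cfsg.sigmaCore M)) :=
  (Fact.out : p.Prime).coprime_iff_not_dvd.2 fun h => hp (isPiSubgroup_sigmaCore M p Fact.out h)

theorem sigmaCore_map_conj (hM : IsCoatom M) (g : G) :
    Cfsg.sigmaCore (M.map (MulAut.conj g).toMonoidHom) =
      (Cfsg.sigmaCore M).map (MulAut.conj g).toMonoidHom := by
  have key : ∀ (L : Subgroup G), IsCoatom L → ∀ x : G,
      (Cfsg.sigmaCore L).map (MulAut.conj x).toMonoidHom ≤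
        Cfsg.sigmaCore (L.map (MulAut.conj x).toMonoidHom) := fun L hL x =>
    le_sigmaCore F (isCoatom_map_conj hL x) (map_mono (sigmaCore_le L)) (by
      rw [sigma_map_conj]; exact isPiSubgroup_map _ (isPiSubgroup_sigmaCore L))
  refine le_antisymm ?_ (key M hM g)
  have h := map_mono (f := (MulAut.conj g).toMonoidHom) (key _ (isCoatom_map_conj hM g) g⁻¹)
  rwa [map_conj_map_conj, map_conj_map_conj, mul_inv_cancel, map_conj_one, inv_mul_cancel,
    map_conj_one] at h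

/-- Sylow subgroups of `M` for primes in `σ(M)` are Sylow subgroups of `G`. -/
theorem isSylowIn_top_of_sigma [Fact p.Prime] (hM : IsCoatom M) (hp : p ∈ Cfsg.sigma M)
    {T : Subgroup G} (hT : IsSylowIn p T M) : IsSylowIn p T ⊤ := by
  refine ⟨le_top, hT.isPGroup, fun hd => ?_⟩
  rw [← relIndex_mul_relIndex T M ⊤ hT.le le_top] at hd
  rcases (Fact.out : p.Prime).dvd_mul.1 hd with h | h
  · exact hT.not_dvd h
  · rw [relIndex_top_right] at h
    exact (F.sigmaHall M hM).2.2 p Fact.out hp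
      (h.trans (index_dvd_of_le (sigmaCore_le M)))

/-- A Sylow subgroup of `G` inside a coatom `H` with normalizer in `H` gives `p ∈ σ(H)`. -/
theorem sigma_of_sylow_top [Fact p.Prime] {T : Subgroup G} (hT : IsSylowIn p T ⊤) (hTH : T ≤ H)
    (hne : T ≠ ⊥) (hN : normalizer (T : Set G) ≤ H) : p ∈ Cfsg.sigma H := by
  refine sigma_of_normalizer_le ?_ (isSylowIn_sylowTop_le hT hTH) hN
  obtain ⟨k, hk⟩ := IsPGroup.iff_card.1 hT.isPGroup
  have h0 : k ≠ 0 := by
    rintro rfl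
    exact hne (Subgroup.card_eq_one.1 (by simpa using hk))
  exact (hk ▸ dvd_pow_self p h0).trans (card_dvd_of_le hTH)

theorem alpha_subset_sigma (hM : IsCoatom M) : Cfsg.alpha M ⊆ Cfsg.sigma M := by
  intro r hr
  haveI := Fact.mk hr.1
  obtain ⟨A, hAM, hA, hAc⟩ := exists_elementary_of_not_pRankLE hr.2
  have hd : r ∣ Nat.card A := by
    obtain ⟨n, hn⟩ := IsPGroup.iff_card.1 (isPGroup_of_isElementaryAbelian hA)
    rw [hn] at hAc ⊢
    refine dvd_pow_self r ?_
    rintro rfl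
    rw [pow_zero] at hAc
    exact absurd hAc (Nat.not_le.2 (Nat.one_lt_pow (by norm_num) hr.1.one_lt))
  have h1 := le_of_isPiHallOf_normal (F.alphaHall M hM).1
    (le_normalizer_piCoreOf (Cfsg.alpha M) M) hAM
    (isPiSubgroup_of_isPGroup (isPGroup_of_isElementaryAbelian hA) hr)
  exact isPiSubgroup_sigmaCore M r hr.1
    (hd.trans (card_dvd_of_le (h1.trans (F.alphaHall M hM).2.1)))

theorem pRankLE_two_of_not_sigma [Fact p.Prime] (hM : IsCoatom M) (hp : p ∉ Cfsg.sigma M) :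
    Cfsg.PRankLE p 2 M :=
  not_not.1 fun h => hp (alpha_subset_sigma F hM ⟨Fact.out, h⟩)

/-- The elementary abelian subgroups of order `p ^ 2` of `M`, `p ∉ σ(M)`, are maximal. -/
theorem maxElem_of_not_sigma [Fact p.Prime] (hM : IsCoatom M) (hp : p ∉ Cfsg.sigma M)
    {A : Subgroup G} (hAM : A ≤ M) (hA : Cfsg.IsElementaryAbelian p A)
    (hc : Nat.card A = p ^ 2) : MaxElem p A :=
  (F.rankTwo M hM p hp (pRankLE_two_of_not_sigma F hM hp)
    (not_pRankLE_one_of_card_sq hAM hA hc)).2 A hAM hA hc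

variable (hG : Cfsg.IsMinSimpleOddOrder G)
include hG

/-- BG 12.2(b), first case. -/
theorem eq_of_conj_of_normalizer_le [Fact p.Prime] (hM : IsCoatom M) (hp : p ∈ Cfsg.sigma M)
    {X : Subgroup G} (hX : IsPGroup p X) (hX1 : X ≠ ⊥) (hXM : X ≤ M)
    (hNX : normalizer (X : Set G) ≤ H) {g : G}
    (hg : H = M.map (MulAut.conj g).toMonoidHom) : H = M := by
  have h1 : X.map (MulAut.conj g⁻¹).toMonoidHom ≤ M := by
    have h2 := map_mono (f := (MulAut.conj g⁻¹).toMonoidHom) ((le_normalizer.trans hNX) : X ≤ H)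
    rwa [hg, map_conj_map_conj, inv_mul_cancel, map_conj_one] at h2
  obtain ⟨m, hm, c, hc, hmc⟩ := F.fusion M hM p hp X hX hX1 hXM g⁻¹ h1
  have hcH : c ∈ H := hNX (centralizer_le_normalizer _ hc)
  have hge : g = c⁻¹ * m⁻¹ := by rw [← mul_inv_rev, ← hmc, inv_inv]
  have hH : H = M.map (MulAut.conj c⁻¹).toMonoidHom := by
    rw [hg, hge, ← map_conj_map_conj, map_conj_eq_self_of_mem (inv_mem hm)]
  have h3 := map_conj_eq_self_of_mem hcH
  conv_lhs at h3 => rw [hH, map_conj_map_conj, mul_inv_cancel, map_conj_one]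
  exact h3.symm

/-- Two coatoms whose Sylow `p`-subgroups are uniqueness subgroups of `G` are conjugate. -/
theorem exists_conj_of_alpha [Fact p.Prime] (hM : IsCoatom M) (hH : IsCoatom H)
    (hpM : p ∈ Cfsg.sigma M) (hpH : p ∈ Cfsg.alpha H) :
    p ∈ Cfsg.alpha M ∧ ∃ g : G, H = M.map (MulAut.conj g).toMonoidHom := by
  obtain ⟨S, hS⟩ := exists_isSylowIn (p := p) M
  have hStop := isSylowIn_top_of_sigma F hM hpM hS
  obtain ⟨A, hAH, hA, hAc⟩ := exists_elementary_of_not_pRankLE hpH.2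
  obtain ⟨T, hAT, hT⟩ := exists_isSylowIn_ge hAH (isPGroup_of_isElementaryAbelian hA)
  have hTtop := isSylowIn_top_of_sigma F hH (alpha_subset_sigma F hH hpH) hT
  obtain ⟨a, -, ha⟩ := hStop.exists_cj_eq hTtop
  have hA' := isElementaryAbelian_map (MulAut.conj a).toMonoidHom hA
  have hA'S : A.map (MulAut.conj a).toMonoidHom ≤ S := ha ▸ map_mono hAT
  have hA'c : p ^ (2 + 1) ≤ Nat.card (A.map (MulAut.conj a).toMonoidHom) := by
    rwa [card_map_conj]
  have h2 : ¬ Cfsg.PRankLE p 2 S := not_pRankLE_of_le hA'S hA' hA'c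
  refine ⟨⟨Fact.out, not_pRankLE_of_le (hA'S.trans hS.le) hA' hA'c⟩, ?_⟩
  have hUS : Cfsg.InUniqueMaximal S :=
    F.uniqueness S (minSimple_ne_top_of_isPGroup hG hS.isPGroup)
      (not_rankLE_of_le hA'S hA' (le_trans (Nat.pow_le_pow_right (Fact.out : p.Prime).pos
        (by norm_num)) hA'c))
      (Or.inl (not_rankLE_of_le hA'S hA' hA'c))
  refine ⟨a⁻¹, ?_⟩
  have h4 := inUniqueMaximal_eq hUS hM hS.le (isCoatom_map_conj hH a) (ha ▸ map_mono hT.le)
  rw [← h4, map_conj_map_conj, inv_mul_cancel, map_conj_one]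

/-- Two subgroups of coprime order of `H'`, of orders prime to `β(H)`, commute if one normalizes
the other. -/
theorem le_centralizer_of_betaPrime (hH : IsCoatom H) {A D : Subgroup G} (hA : A ≤ ⁅H, H⁆)
    (hD : D ≤ ⁅H, H⁆) (hAD : A ≤ normalizer (D : Set G))
    (hAb : IsPiSubgroup {r | r.Prime ∧ r ∉ Cfsg.beta H} A)
    (hDb : IsPiSubgroup {r | r.Prime ∧ r ∉ Cfsg.beta H} D)
    (hcop : (Nat.card A).Coprime (Nat.card D)) : A ≤ centralizer (D : Set G) := by
  obtain ⟨⟨K, hK, hKn⟩, -⟩ := F.betaHall H hH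
  set W := ⁅H, H⁆ with hW
  have hWH : W ≤ H := commutator_le_self H
  haveI : Group.IsSolvable W := minSimple_solvable hG fun h => hH.1 (top_le_iff.1 (h ▸ hWH))
  have hU : IsPiSubgroup {r | r.Prime ∧ r ∉ Cfsg.beta H} ((A ⊔ D).subgroupOf W) :=
    isPiSubgroup_subgroupOf (isPiSubgroup_sup hAD hAb hDb)
  obtain ⟨g, hg⟩ := Solvable.exists_conj_le_isPiHall (H := K.subgroupOf W)
    ⟨fun r hr hd => hK.2.1 r hr (hd.trans (by
      rw [Nat.card_congr (subgroupOfEquivOfLe hK.1).toEquiv])), hK.2.2⟩ hU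
  have h1 : (A ⊔ D).map (MulAut.conj (g : G)).toMonoidHom ≤ K := by
    rintro _ ⟨x, hx, rfl⟩
    have := hg (Coprime.conj_mem_conj_smul (g := g)
      (show (⟨x, sup_le hA hD hx⟩ : W) ∈ (A ⊔ D).subgroupOf W from hx))
    simpa [mem_subgroupOf] using this
  have h2 := le_centralizer_of_coprime_nilpotent hKn
    ((map_mono le_sup_left).trans h1) ((map_mono le_sup_right).trans h1)
    (by rwa [card_map_conj, card_map_conj])
  intro a ha
  rw [mem_centralizer_iff]
  intro d hd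
  have h3 := mem_centralizer_iff.1 (h2 (mem_map_of_mem _ ha)) _ (mem_map_of_mem _ hd)
  simpa using h3

/-- BG 10.2(c): `M_σ ≤ M'`. -/
theorem sigmaCore_le_derived (hM : IsCoatom M) : Cfsg.sigmaCore M ≤ ⁅M, M⁆ := by
  refine BG4.le_of_sylow_le fun r hr => ?_
  haveI := Fact.mk hr
  obtain ⟨Q⟩ : Nonempty (Sylow r (Cfsg.sigmaCore M)) := inferInstance
  refine ⟨Q, ?_⟩
  by_cases hd : r ∣ Nat.card (Cfsg.sigmaCore M)
  swap
  · intro x hx
    obtain ⟨y, hy, rfl⟩ := hx
    have h1 : (Q : Subgroup (Cfsg.sigmaCore M)) = ⊥ := PLocal.eq_bot_of_isPGroup_of_coprime Q.2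
      (Nat.Coprime.coprime_dvd_left (card_subgroup_dvd_card _)
        ((hr.coprime_iff_not_dvd.mpr hd).symm))
    rw [h1, SetLike.mem_coe, mem_bot] at hy
    subst hy
    exact one_mem _
  have hrs := isPiSubgroup_sigmaCore M r hr hd
  obtain ⟨T, hQT, hT⟩ := exists_isSylowIn_ge ((map_subtype_le _).trans (sigmaCore_le M))
    (Q.2.map (Cfsg.sigmaCore M).subtype)
  refine hQT.trans ?_
  have hTtop := isSylowIn_top_of_sigma F hM hrs hT
  set P := hTtop.toSylowTop
  have hP : (P : Subgroup G) = T := rfl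
  have hfus : Transfer.ControlsFusion M (P : Subgroup G) := by
    intro x hx g hgx
    by_cases hx1 : x = 1
    · exact ⟨1, one_mem _, by simp [hx1]⟩
    rw [hP] at hx hgx
    have hxp : IsPGroup r (zpowers x) := hT.isPGroup.to_le (zpowers_le.2 hx)
    obtain ⟨m, hm, c, hc, hgc⟩ := F.fusion M hM r hrs (zpowers x) hxp
      (by simpa using hx1) (zpowers_le.2 (hT.le hx)) g (by
        rw [MonoidHom.map_zpowers, zpowers_le]
        exact hT.le hgx)
    refine ⟨m, hm, ?_⟩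
    have hcx := mem_centralizer_iff.1 hc x (mem_zpowers x)
    rw [hgc]
    calc m * x * m⁻¹ = m * (x * c) * c⁻¹ * m⁻¹ := by group
      _ = m * (c * x) * c⁻¹ * m⁻¹ := by rw [hcx]
      _ = m * c * x * (m * c)⁻¹ := by group
  have h := Transfer.commutator_inf_eq_of_controlsFusion P (hP ▸ hT.le) hfus
  haveI := minSimple_isSimpleGroup hG
  have hperf : commutator G = ⊤ := by
    refine (minSimple_normal_eq_bot_or_top hG inferInstance).resolve_left fun h0 => ?_
    refine minSimple_not_comm hG ⟨⟨fun a b => ?_⟩⟩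
    rw [← commutatorElement_eq_one_iff_mul_comm, ← mem_bot, ← h0]
    exact commutator_mem_commutator (mem_top a) (mem_top b)
  rw [hperf, top_inf_eq, hP] at h
  exact h.le.trans inf_le_left

/-- `M_σ ≠ 1`. -/
theorem sigmaCore_ne_bot (hM : IsCoatom M) : Cfsg.sigmaCore M ≠ ⊥ := by
  intro hbot
  have hs : ∀ r, r ∉ Cfsg.sigma M := by
    intro r hr
    haveI := Fact.mk hr.1
    obtain ⟨T, hT⟩ := exists_isSylowIn (p := r) M
    exact sylowIn_ne_bot hT hr.2.1 (le_bot_iff.1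
      (hbot ▸ pGroup_le_sigmaCore F hM hr hT.le hT.isPGroup))
  have hr2 : Cfsg.RankLE 2 M := fun r hr => by
    haveI := Fact.mk hr
    exact pRankLE_two_of_not_sigma F hM (hs r)
  haveI := minSimple_coatom_solvable hG hM
  have hne : 1 < Nat.card M := M.one_lt_card_iff_ne_bot.2 (minSimple_coatom_ne_bot hG hM)
  set r := (Nat.card M).primeFactors.max' (Nat.nonempty_primeFactors.2 hne) with hr
  have hrm := Finset.max'_mem (Nat.card M).primeFactors (Nat.nonempty_primeFactors.2 hne)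
  rw [← hr] at hrm
  obtain ⟨hrp, hrd, -⟩ := Nat.mem_primeFactors.1 hrm
  haveI := Fact.mk hrp
  obtain ⟨N, hNc, hN⟩ := BG4.exists_char_hall_gt (minSimple_odd_subgroup hG M) (Or.inl hr2) (r - 1)
  have hNp : IsPGroup r N := by
    refine IsPGroup.iff_card.2 ⟨_, Nat.eq_prime_pow_of_unique_prime_dvd Nat.card_pos.ne'
      fun {s} hs' hsd => ?_⟩
    have h1 := (hN.1 s hs' hsd).2
    have h2 : s ≤ r := Finset.le_max' _ s
      (Nat.mem_primeFactors.2 ⟨hs', hsd.trans (card_subgroup_dvd_card N), Nat.card_pos.ne'⟩)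
    omega
  have hT : IsSylowIn r (N.map M.subtype) M := by
    refine ⟨map_subtype_le _, hNp.map _, ?_⟩
    rw [Subgroup.relIndex, show (N.map M.subtype).subgroupOf M = N from
      comap_map_eq_self_of_injective M.subtype_injective _]
    exact hN.2 r hrp ⟨hrp, Nat.sub_lt hrp.pos one_pos⟩
  refine hs r (sigma_of_normalizer_le hrd hT ?_)
  refine (minSimple_normalizer_eq_coatom_of_le hG hM (sylowIn_ne_bot hT hrd) hT.le ?_).le
  haveI := hNc
  rw [← normal_subgroupOf_iff_le_normalizer hT.le, show (N.map M.subtype).subgroupOf M = N from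
    comap_map_eq_self_of_injective M.subtype_injective _]
  infer_instance

/-- A nilpotent `M_σ` meets no other `H_σ` once `M_σ ≤ H`. -/
theorem sigmaCore_inf_eq_bot_of_le (hM : IsCoatom M) (hH : IsCoatom H) (hne : H ≠ M)
    (hnil : Group.IsNilpotent (Cfsg.sigmaCore M)) (hle : Cfsg.sigmaCore M ≤ H) :
    Cfsg.sigmaCore M ⊓ Cfsg.sigmaCore H = ⊥ := by
  refine inf_eq_bot_of_isPiSubgroup (isPiSubgroup_sigmaCore M) (isPiSubgroup_sigmaCore H)
    (Set.disjoint_left.2 fun r hr hr' => hne ?_)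
  haveI := Fact.mk hr.1
  obtain ⟨T, hT⟩ := exists_isSylowIn (p := r) M
  have hTs := pGroup_le_sigmaCore F hM hr hT.le hT.isPGroup
  haveI := hnil
  set P : Sylow r (Cfsg.sigmaCore M) := (hT.isPGroup.comap_subtype).toSylow
    (show ¬ r ∣ (T.subgroupOf (Cfsg.sigmaCore M)).index from
      (hT.of_le hTs (sigmaCore_le M)).not_dvd)
  have hTn : M ≤ normalizer (T : Set G) := by
    intro g hg
    refine ConjFunctor.mem_normalizer_of_forall_conj_mem fun x hx => ?_
    haveI : (P : Subgroup ↥(Cfsg.sigmaCore M)).Normal := by infer_instance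
    haveI : (P : Subgroup ↥(Cfsg.sigmaCore M)).Characteristic := P.characteristic_of_normal inferInstance
    have h := Stab.map_subtype_conj_mem (P : Subgroup ↥(Cfsg.sigmaCore M))
      (le_normalizer_sigmaCore M hg) (x := x) ⟨⟨x, hTs hx⟩, hx, rfl⟩
    obtain ⟨y, hy, e⟩ := h
    exact e ▸ hy
  have hNH := normalizer_le_of_sigma hr'
    (isSylowIn_sylowTop_le (isSylowIn_top_of_sigma F hM hr hT) (hTs.trans hle))
  exact ((hM.le_iff.1 (hTn.trans hNH)).resolve_left hH.1)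

end CfsgLib.OddOrder.BG11
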