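import Cfsg.Agent.OddOrder.BG11.Basic
import Cfsg.Agent.OddOrder.BG3.Prop36
import Cfsg.Agent.OddOrder.BG9.Uniqueness
import Cfsg.Agent.OddOrder.BG10.BetaCore
import Cfsg.Agent.OddOrder.BG10.PLengthOne
import Cfsg.Agent.OddOrder.BG10.RankTwo

/-!
# The facts of BG 8-10 hold in every minimal simple group of odd order
-/

set_option autoImplicit false
set_option linter.style.haveILetI false

namespace CfsgLib.OddOrder.BG11

open Cfsg Subgroup

universe u

/-- BG 3.6 in the form used by BG 10.6. -/
theorem smallFixBound_holds : SmallFixBound.{u} := by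
  intro X _ _ _ hodd H R R₀ _ hHall hR hR₀ hR₀p hZ r _
  have hcop : (Nat.card R).Coprime (Nat.card H) := by
    rw [← hR.symm.index_eq_card]; exact hHall.symm
  refine commutator_pLengthLE_one r H R R₀ inferInstance
    (hodd.of_dvd_nat (Subgroup.card_subgroup_dvd_card H)) hcop hR₀ hR₀p ?_ hZ
  intro h
  have := hodd.of_dvd_nat (Subgroup.card_subgroup_dvd_card R₀)
  rw [h] at this
  exact absurd this (by decide)

theorem bg10Facts {G : Type u} [Group G] [Finite G] (hG : Cfsg.IsMinSimpleOddOrder G) :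
    BG10Facts G where
  sigmaHall M hM := sigmaCore_isHall hG hM
  alphaHall M hM :=
    ⟨(alphaCore_isHall hG hM).1, alphaCore_le_sigmaCore hG hM, (alphaCore_quotient hG hM).2⟩
  fusion M hM p _ hp X hXp hX1 hXM g hg := sigma_conj_le hG hM hp hXp hX1 hXM hg
  rankTwo M hM p _ _ hr2 hr1 :=
    ⟨not_isIdealPrime_of_not_sigma hG hM hr2 hr1,
      fun A hAM hA hA2 B hB hAB => maximal_plane_of_not_sigma hG hM hr2 hAM hA hA2 hB hAB⟩
  pLengthOne p _ H hH := pLengthOne smallFixBound_holds hG p hH
  rankTwoSylow p _ P hr := sylow_rank_two_structure smallFixBound_holds hG P hr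
  betaHall M hM :=
    ⟨exists_nilpotent_beta_hall smallFixBound_holds hG hM le_rfl, fun p hp hd hb => by
      haveI := Fact.mk hp
      exact (beta_prime_facts smallFixBound_holds hG hM hd hb).2.1⟩
  uniqueness K hK h1 h2 := CfsgLib.OddOrder.uniqueness hG hK h1 h2

end CfsgLib.OddOrder.BG11
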