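import Cfsg.Agent.OddOrder.BG11.SylowAbelian
import Cfsg.Agent.OddOrder.BG8.Fitting
import Cfsg.Agent.OddOrder.BG8.Bender
import Cfsg.Agent.OddOrder.TypePBasic

/-!
# BG 11: the core `O_r(C_M(M_σ) ∩ M')` of an exceptional maximal subgroup

For `r ∉ σ(M)` an `A`-invariant `r`-subgroup `R` of an exceptional `M` has `[R, A]` inside this
core, and if the core is nontrivial it is cyclic and its line makes `M` exceptional for `r`.
-/

set_option autoImplicit false
set_option linter.style.haveILetI false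
set_option linter.unusedSectionVars false

namespace CfsgLib.OddOrder.BG11

open Cfsg Subgroup
open CfsgLib.ConjFunctor (IsSylowIn exists_isSylowIn_ge)
open scoped commutatorElement

variable {G : Type*} [Group G] [Finite G] {p q r : ℕ}

/-- An elementary abelian group of order at least `p ^ 2` has a subgroup of order `p ^ 2`. -/
theorem exists_card_sq_le [Fact p.Prime] {A : Subgroup G} (hA : Cfsg.IsElementaryAbelian p A)
    (hc : p ^ 2 ≤ Nat.card A) :
    ∃ B : Subgroup G, B ≤ A ∧ Cfsg.IsElementaryAbelian p B ∧ Nat.card B = p ^ 2 := by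
  have hp1 := (Fact.out : p.Prime).one_lt
  obtain ⟨a, ha, ha1⟩ := (bot_or_exists_ne_one A).resolve_left (fun h => by
    rw [h, card_bot] at hc
    exact absurd hc (not_le.2 (Nat.one_lt_pow two_ne_zero hp1)))
  have hac := card_zpowers_of_mem hA.2 ha ha1
  have hnle : ¬ A ≤ zpowers a := fun h => absurd (hc.trans (Nat.le_of_dvd Nat.card_pos
    (card_dvd_of_le h))) (by rw [hac]; exact not_le.2 (lt_self_pow₀ hp1 one_lt_two))
  obtain ⟨b, hb, hbn⟩ := SetLike.not_le_iff_exists.1 hnle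
  have hle : zpowers a ⊔ zpowers b ≤ A := sup_le (zpowers_le.2 ha) (zpowers_le.2 hb)
  refine ⟨_, hle, isElementaryAbelian_mono hle hA, card_sup_eq_sq hac
    (card_zpowers_of_mem hA.2 hb fun e => hbn (e ▸ one_mem _))
    ((zpowers_le.2 hb).trans ((le_centralizer_self hA.1).trans
      ((centralizer_le (zpowers_le.2 ha)).trans (centralizer_le_normalizer _)))) ?_⟩
  exact fun e => hbn (e ▸ mem_zpowers b)

theorem exists_card_sq_of_not_pRankLE_one [Fact p.Prime] {H : Subgroup G}
    (h : ¬ Cfsg.PRankLE p 1 H) :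
    ∃ B : Subgroup G, B ≤ H ∧ Cfsg.IsElementaryAbelian p B ∧ Nat.card B = p ^ 2 := by
  obtain ⟨A, hAH, hA, hc⟩ := exists_elementary_of_not_pRankLE h
  obtain ⟨B, hBA, hB, hBc⟩ := exists_card_sq_le hA hc
  exact ⟨B, hBA.trans hAH, hB, hBc⟩

/-- A `p`-group, `p` odd, without elementary abelian subgroup of order `p ^ 2` is cyclic. -/
theorem isCyclic_of_pRankLE_one [Fact p.Prime] {P H : Subgroup G} (hPH : P ≤ H)
    (hP : IsPGroup p P) (hp2 : p ≠ 2) (h : Cfsg.PRankLE p 1 H) : IsCyclic P := by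
  by_cases hb : P = ⊥
  · subst hb
    exact inferInstance
  obtain ⟨z, hzP, hzc, hzo⟩ := exists_central_of_isPGroup hP hb
  have hzc' : Nat.card (zpowers z) = p := by rw [Nat.card_zpowers, hzo]
  refine isCyclic_of_omega_le hP hp2 hzc'.le fun x hx hxp => ?_
  by_contra hxn
  have hcx : x ∈ centralizer (zpowers z : Set G) := by
    rw [centralizer_zpowers, mem_centralizer_singleton_iff]
    exact mem_centralizer_iff.1 hzc x hx
  have he : Cfsg.IsElementaryAbelian p (zpowers z) := by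
    refine ⟨inferInstance, fun y hy => ?_⟩
    obtain ⟨i, rfl⟩ := mem_zpowers_iff.1 hy
    rw [← zpow_natCast, ← zpow_mul, mul_comm, zpow_mul, zpow_natCast, ← hzo, pow_orderOf_eq_one,
      one_zpow]
  refine not_pRankLE_one_of_card_sq ((sup_le (zpowers_le.2 hzP) (zpowers_le.2 hx)).trans hPH)
    (elem_sup_zpowers he hxp hcx)
    (card_sup_eq_sq hzc' (by
      rw [Nat.card_zpowers]
      exact orderOf_eq_prime hxp fun e => hxn (e ▸ one_mem _))
      ((zpowers_le.2 hcx).trans (centralizer_le_normalizer _))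
      fun e => hxn (e ▸ mem_zpowers x)) h

theorem le_normalizer_inf_centralizer_of_le {M S : Subgroup G} (h : M ≤ normalizer (S : Set G)) :
    M ≤ normalizer ((M ⊓ centralizer (S : Set G) : Subgroup G) : Set G) := by
  intro g hg
  refine ConjFunctor.mem_normalizer_of_forall_conj_mem fun x hx => ?_
  have hxM : x ∈ M := hx.1
  exact mem_inf.2 ⟨mul_mem (mul_mem hg hxM) (inv_mem hg), conj_mem_centralizer (h hg) hx.2⟩

theorem le_normalizer_commutator_self (M : Subgroup G) :
    M ≤ normalizer ((⁅M, M⁆ : Subgroup G) : Set G) := by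
  intro g hg
  rw [← map_conj_eq_self_iff, map_commutator, map_conj_eq_self_of_mem hg]

/-- The group `C_M(M_σ) ∩ M'`. -/
def keyGroup (M : Subgroup G) : Subgroup G :=
  (M ⊓ centralizer ((Cfsg.sigmaCore M : Subgroup G) : Set G)) ⊓ ⁅M, M⁆

/-- The `r`-core of `C_M(M_σ) ∩ M'`. -/
def keyCore (r : ℕ) (M : Subgroup G) : Subgroup G := Cfsg.piCoreOf ({r} : Set ℕ) (keyGroup M)

theorem keyCore_le_keyGroup (r : ℕ) (M : Subgroup G) : keyCore r M ≤ keyGroup M :=
  piCoreOf_le _ _

theorem keyCore_le (r : ℕ) (M : Subgroup G) : keyCore r M ≤ M :=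
  (keyCore_le_keyGroup r M).trans (inf_le_left.trans inf_le_left)

theorem keyCore_le_centralizer (r : ℕ) (M : Subgroup G) :
    keyCore r M ≤ centralizer ((Cfsg.sigmaCore M : Subgroup G) : Set G) :=
  (keyCore_le_keyGroup r M).trans (inf_le_left.trans inf_le_right)

theorem isPGroup_keyCore (r : ℕ) [Fact r.Prime] (M : Subgroup G) : IsPGroup r (keyCore r M) :=
  isPGroup_of_isPiSubgroup (isPiSubgroup_piCoreOf _ _)

theorem le_normalizer_keyGroup (M : Subgroup G) : M ≤ normalizer (keyGroup M : Set G) :=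
  le_normalizer_inf_of_le (le_normalizer_inf_centralizer_of_le (le_normalizer_sigmaCore M))
    (le_normalizer_commutator_self M)

theorem le_normalizer_keyCore (r : ℕ) (M : Subgroup G) : M ≤ normalizer (keyCore r M : Set G) :=
  (le_normalizer_keyGroup M).trans (normalizer_le_normalizer_piCoreOf _ _)

variable (hG : Cfsg.IsMinSimpleOddOrder G) (F : BG10Facts G)
include hG F

theorem isNilpotent_keyGroup {M : Subgroup G} (hM : IsCoatom M) :
    Group.IsNilpotent (keyGroup M) := by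
  obtain ⟨-, haσ, hnil⟩ := F.alphaHall M hM
  set N := keyGroup M with hN
  have hNM : N ≤ M := inf_le_left.trans inf_le_left
  set g : M →* M ⧸ Cfsg.piCore (Cfsg.alpha M) M := QuotientGroup.mk' _ with hg
  set f : N →* M ⧸ Cfsg.piCore (Cfsg.alpha M) M := g.comp (Subgroup.inclusion hNM) with hf
  have hmem : ∀ x : N, f x ∈ (commutator M).map g := by
    intro x
    refine mem_map_of_mem _ ?_
    have h1 : (x : G) ∈ (commutator M).map M.subtype := by
      rw [map_subtype_commutator]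
      exact x.2.2
    obtain ⟨y, hy, hye⟩ := h1
    have : y = Subgroup.inclusion hNM x := Subtype.ext hye
    exact this ▸ hy
  haveI := hnil
  refine _root_.isNilpotent_of_ker_le_center (f.codRestrict _ hmem) ?_
  intro x hx
  rw [MonoidHom.mem_ker, Subtype.ext_iff] at hx
  have hxK : Subgroup.inclusion hNM x ∈ Cfsg.piCore (Cfsg.alpha M) M :=
    (QuotientGroup.eq_one_iff _).1 hx
  have hxS : (x : G) ∈ Cfsg.sigmaCore M := haσ ⟨_, hxK, rfl⟩
  rw [mem_center_iff]
  intro y
  exact Subtype.ext (mem_centralizer_iff.1 y.2.1.2 _ hxS).symm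

/-- `[R, A] ≤ O_r(C_M(M_σ) ∩ M')` for an `A`-invariant `r`-subgroup `R`, `r ∉ σ(M)`. -/
theorem Exceptional.commutator_le_keyCore [Fact p.Prime] [Fact r.Prime] {M A A₀ R : Subgroup G}
    (h : Exceptional p M A A₀) (hr : r ∉ Cfsg.sigma M) (hR : IsPGroup r R) (hRM : R ≤ M)
    (hAR : A ≤ normalizer (R : Set G)) : ⁅R, A⁆ ≤ keyCore r M := by
  by_cases hrp : r = p
  · subst hrp
    have hAp := isPGroup_of_isElementaryAbelian h.elem
    have hle : R ⊔ A ≤ M := sup_le hRM h.le
    obtain ⟨P, hRAP, hP⟩ := exists_isSylowIn_ge hle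
      (IsPGroup.to_sup_of_normal_left' hR hAp hAR)
    haveI := h.isMulCommutative_sylow hG F hP (le_sup_right.trans hRAP)
    have : ⁅R, A⁆ = ⊥ := by
      rw [commutator_eq_bot_iff_le_centralizer]
      intro x hx
      rw [mem_centralizer_iff]
      intro y hy
      exact setLike_mul_comm (s := P) (hRAP (mem_sup_right hy)) (hRAP (mem_sup_left hx))
    rw [this]
    exact bot_le
  obtain ⟨-, X₁, X₂, hX₁, hX₂, hc₁, hc₂, hne, hf₁, hf₂⟩ := h.exists_two_fpf hG F
  have hMne : M ≠ ⊤ := h.maximal.1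
  have hRne : Group.IsSolvable R := minSimple_solvable hG fun ht => hMne (top_le_iff.1 (ht ▸ hRM))
  have hSr : ¬ r ∣ Nat.card (Cfsg.sigmaCore M) := not_dvd_card_sigmaCore hr
  have hRS : (Nat.card R).Coprime (Nat.card (Cfsg.sigmaCore M)) :=
    coprime_card_of_not_dvd hR hSr
  have hN : ∀ X : Subgroup G, X ≤ A → Nat.card X = p →
      Cfsg.sigmaCore M ⊓ centralizer (X : Set G) = ⊥ → ⁅R, X⁆ ≤ keyGroup M := by
    intro X hX hXc hXf
    have hXM : X ≤ M := hX.trans h.le
    have hXp : (Nat.card X).Prime := hXc.symm ▸ Fact.out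
    have hcomm := commutator_le_centralizer_nilpotent_of_rfix0
      (h.isNilpotent_sigmaCore hG F) hRne (hX.trans hAR)
      (hRM.trans (le_normalizer_sigmaCore M)) (hXM.trans (le_normalizer_sigmaCore M)) hXp
      (hXc.symm ▸ h.ne_two hG F) (minSimple_odd_subgroup hG R) hRS
      (by rw [hXc]; exact coprime_sigmaCore F h.not_sigma)
      (by
        rw [hXc]
        refine (Fact.out : p.Prime).coprime_iff_not_dvd.2 fun hd => hrp ?_
        obtain ⟨k, hk⟩ := IsPGroup.iff_card.1 hR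
        rw [hk] at hd
        exact ((Nat.prime_dvd_prime_iff_eq Fact.out Fact.out).1
          ((Fact.out : p.Prime).dvd_of_dvd_pow hd)).symm) hXf
    exact le_inf (le_inf (((commutator_mono hRM hXM)).trans (commutator_le_self M)) hcomm)
      (commutator_mono hRM hXM)
  have hA : A = X₁ ⊔ X₂ := (sup_eq_of_card h.card hX₁ hc₁ hX₂ hc₂ hne).symm
  have hX₂n : X₂ ≤ normalizer (X₁ : Set G) :=
    hX₂.trans ((le_centralizer_self h.elem.1).trans
      ((centralizer_le hX₁).trans (centralizer_le_normalizer _)))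
  have hkey : ⁅R, A⁆ ≤ keyGroup M := by
    rw [commutator_le]
    intro x hx a ha
    have ha' : a ∈ ((X₁ ⊔ X₂ : Subgroup G) : Set G) := hA ▸ ha
    rw [coe_mul_of_right_le_normalizer_left X₁ X₂ hX₂n] at ha'
    obtain ⟨a₁, ha₁, a₂, ha₂, rfl⟩ := ha'
    have h1 : ⁅x, a₁⁆ ∈ keyGroup M := hN X₁ hX₁ hc₁ hf₁ (commutator_mem_commutator hx ha₁)
    have h2 : ⁅x, a₂⁆ ∈ keyGroup M := hN X₂ hX₂ hc₂ hf₂ (commutator_mem_commutator hx ha₂)
    have h3 : a₁ * ⁅x, a₂⁆ * a₁⁻¹ ∈ keyGroup M :=
      conj_mem_of_mem_normalizer (le_normalizer_keyGroup M (h.le (hX₁ ha₁))) h2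
    have e : ⁅x, a₁ * a₂⁆ = ⁅x, a₁⁆ * (a₁ * ⁅x, a₂⁆ * a₁⁻¹) := by
      simp only [commutatorElement_def]
      group
    rw [e]
    exact mul_mem h1 h3
  have hRA : ⁅R, A⁆ ≤ R := by
    rw [commutator_le]
    intro x hx a ha
    rw [commutatorElement_def, show x * a * x⁻¹ * a⁻¹ = x * (a * x⁻¹ * a⁻¹) by group]
    exact mul_mem hx (conj_mem_of_mem_normalizer (hAR ha) (inv_mem hx))
  exact nilpotent_le_piCoreOf (isNilpotent_keyGroup hG F h.maximal) hkey
    (isPiSubgroup_of_isPGroup (hR.to_le hRA) rfl)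

/-- A nontrivial `O_r(C_M(M_σ) ∩ M')`, `r ∉ σ(M)`, of an exceptional `M` is cyclic. -/
theorem Exceptional.isCyclic_keyCore [Fact p.Prime] [Fact r.Prime] {M A A₀ : Subgroup G}
    (h : Exceptional p M A A₀) (hr : r ∉ Cfsg.sigma M) : IsCyclic (keyCore r M) := by
  set O := keyCore r M with hO
  set S := Cfsg.sigmaCore M with hS
  by_contra hnc
  have hOne : O ≠ ⊥ := by
    intro hb
    rw [hb] at hnc
    exact hnc inferInstance
  have hOM : O ≤ M := keyCore_le r M
  have hOS : O ≤ centralizer (S : Set G) := keyCore_le_centralizer r M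
  have hOp : IsPGroup r O := isPGroup_keyCore r M
  have hM := h.maximal
  have hMne : M ≠ ⊤ := hM.1
  have hSne : S ≠ ⊥ := sigmaCore_ne_bot F hG hM
  have hrM : r ∣ Nat.card M := by
    refine dvd_trans ?_ (card_dvd_of_le hOM)
    obtain ⟨k, hk⟩ := IsPGroup.iff_card.1 hOp
    rcases Nat.eq_zero_or_pos k with rfl | hk0
    · exact absurd (Subgroup.card_eq_one.1 (hk.trans (pow_zero r))) hOne
    · exact hk ▸ dvd_pow_self r hk0.ne'
  have hr2 : r ≠ 2 := minSimple_prime_ne_two_subgroup hG hrM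
  -- no line of `O` is normal in `M`
  have hnoline : ∀ Y : Subgroup G, Y ≤ O → Nat.card Y = r → ¬ M ≤ normalizer (Y : Set G) := by
    intro Y hY hYc hn
    have hNY : normalizer (Y : Set G) ≤ M :=
      ((hM.le_iff.1 hn).resolve_left (minSimple_normalizer_ne_top hG (ne_bot_of_card_prime hYc)
        fun ht => hMne (top_le_iff.1 (ht ▸ hY.trans hOM)))).le
    have hOY : O ≤ centralizer (Y : Set G) :=
      le_centralizer_of_card_prime hOp hYc (hOM.trans hn)
    obtain ⟨x, hx, hxp, hxY⟩ : ∃ x ∈ O, x ^ r = 1 ∧ x ∉ Y := by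
      by_contra hno
      exact hnc (isCyclic_of_omega_le hOp hr2 hYc.le fun x hx hxp =>
        not_not.1 fun hxY => hno ⟨x, hx, hxp, hxY⟩)
    obtain ⟨y, hy, hy1⟩ := exists_mem_ne_one_of_card hYc
    have hYe : Cfsg.IsElementaryAbelian r Y := by
      haveI : IsCyclic Y := isCyclic_of_prime_card hYc
      refine ⟨inferInstance, fun z hz => ?_⟩
      simpa [hYc] using congrArg Subtype.val (pow_card_eq_one' (x := (⟨z, hz⟩ : Y)))
    have hxc : x ∈ centralizer (Y : Set G) := hOY hx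
    set B := Y ⊔ zpowers x with hB
    have hBe : Cfsg.IsElementaryAbelian r B := elem_sup_zpowers hYe hxp hxc
    have hxc' : Nat.card (zpowers x) = r := by
      rw [Nat.card_zpowers]
      exact orderOf_eq_prime hxp fun e => hxY (e ▸ one_mem _)
    have hBc : Nat.card B = r ^ 2 := card_sup_eq_sq hYc hxc'
      ((zpowers_le.2 hxc).trans (centralizer_le_normalizer _)) fun e => hxY (e ▸ mem_zpowers x)
    have hBO : B ≤ O := sup_le hY (zpowers_le.2 hx)
    have hE : Exceptional r M B Y :=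
      ⟨hM, hr, hBO.trans hOM, hBe, hBc, le_sup_left, hYc, hNY⟩
    refine hSne (le_bot_iff.1 ((hE.exists_two_fpf hG F).1 ▸ le_inf le_rfl ?_))
    exact le_centralizer_iff.1 (hBO.trans hOS)
  -- the elements of order `r` of the centre of `O`
  set Z := O ⊓ centralizer (O : Set G) with hZdef
  haveI hZcomm : IsMulCommutative Z := le_centralizer_iff_isMulCommutative.1
    (inf_le_right.trans (centralizer_le inf_le_left))
  let B : Subgroup G :=
    { carrier := {x | x ∈ Z ∧ x ^ r = 1}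
      one_mem' := ⟨one_mem _, one_pow r⟩
      mul_mem' := fun {a b} ha hb => ⟨mul_mem ha.1 hb.1, by
        rw [Commute.mul_pow (setLike_mul_comm (s := Z) ha.1 hb.1), ha.2, hb.2, one_mul]⟩
      inv_mem' := fun {a} ha => ⟨inv_mem ha.1, by rw [inv_pow, ha.2, inv_one]⟩ }
  have hBmem : ∀ x, x ∈ B ↔ x ∈ Z ∧ x ^ r = 1 := fun x => Iff.rfl
  have hBZ : B ≤ Z := fun x hx => hx.1
  have hBO : B ≤ O := hBZ.trans inf_le_left
  have hBM : B ≤ M := hBO.trans hOM
  have hBe : Cfsg.IsElementaryAbelian r B :=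
    ⟨⟨⟨fun a b => Subtype.ext (setLike_mul_comm (s := Z) a.2.1 b.2.1)⟩⟩, fun x hx => hx.2⟩
  have hBn : M ≤ normalizer (B : Set G) := by
    intro g hg
    refine ConjFunctor.mem_normalizer_of_forall_conj_mem fun x hx => ⟨⟨?_, ?_⟩, ?_⟩
    · exact conj_mem_of_mem_normalizer (le_normalizer_keyCore r M hg) hx.1.1
    · exact conj_mem_centralizer (le_normalizer_keyCore r M hg) hx.1.2
    · rw [conj_pow, hx.2]; group
  obtain ⟨z₀, hz₀, hz₀c, hz₀o⟩ := exists_central_of_isPGroup hOp hOne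
  have hz₀B : z₀ ∈ B := ⟨⟨hz₀, hz₀c⟩, hz₀o ▸ pow_orderOf_eq_one z₀⟩
  have hBne : B ≠ ⊥ := fun hb => by
    rw [hb, mem_bot] at hz₀B
    rw [hz₀B, orderOf_one] at hz₀o
    exact (Fact.out : r.Prime).one_lt.ne hz₀o
  have hBc : Nat.card B = r ^ 2 := by
    obtain ⟨k, hk⟩ := IsPGroup.iff_card.1 (isPGroup_of_isElementaryAbelian hBe)
    have h0 : k ≠ 0 := fun h0 => hBne (Subgroup.card_eq_one.1 (by rw [hk, h0, pow_zero]))
    have h1 : k ≠ 1 := fun h1 => hnoline B hBO (by rw [hk, h1, pow_one]) hBn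
    have h2 : k ≤ 2 := by
      by_contra h3
      exact not_pRankLE_of_le hBM hBe (hk ▸ Nat.pow_le_pow_right (Fact.out : r.Prime).pos
        (by omega : 2 + 1 ≤ k)) (pRankLE_two_of_not_sigma F hM hr)
    rw [hk, show k = 2 by omega]
  have hNB : normalizer (B : Set G) = M :=
    (hM.le_iff.1 hBn).resolve_left (minSimple_normalizer_ne_top hG hBne
      fun ht => hMne (top_le_iff.1 (ht ▸ hBM)))
  have hCB : centralizer (B : Set G) ≤ M := (centralizer_le_normalizer _).trans hNB.le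
  have hmax : MaxElem r B := maxElem_of_not_sigma F hM hr hBM hBe hBc
  obtain ⟨R, hBR, hR⟩ := exists_isSylowIn_ge hBM (isPGroup_of_isElementaryAbelian hBe)
  obtain ⟨g, hg, hgM⟩ := not_normalizer_le hrM hr hR
  obtain ⟨Sr, hRSr, hSr⟩ := exists_isSylowIn_ge (le_top : R ≤ ⊤) hR.isPGroup
  have hBSr : B ≤ Sr := hBR.trans hRSr
  have hNL := le_normalizer_inf_centralizer_self hBe hmax hBSr
  -- `B ∩ Z(Sr)` is a line
  set Zl := B ⊓ centralizer (Sr : Set G) with hZl
  have hSrne : Sr ≠ ⊥ := fun hb => hBne (le_bot_iff.1 (hb ▸ hBSr))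
  obtain ⟨z, hzS, hzc, hzo⟩ := exists_central_of_isPGroup hSr.isPGroup hSrne
  have hzZl : z ∈ Zl := hmax.central_mem hBe hBSr hzc hzo
  have hZlne : Zl ≠ ⊥ := fun hb => by
    rw [hb, mem_bot] at hzZl
    rw [hzZl, orderOf_one] at hzo
    exact (Fact.out : r.Prime).one_lt.ne hzo
  have hRtop : Sr ≤ M → R = Sr := fun hle => (hR.eq_of_le hRSr hle hSr.isPGroup).symm
  have hZllt : Zl < B := by
    refine inf_le_left.lt_of_ne fun he => hgM ?_
    have hSrC : Sr ≤ centralizer (B : Set G) := by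
      exact le_centralizer_iff.1 (inf_eq_left.1 he)
    have e := hRtop (hSrC.trans hCB)
    subst e
    refine hNB.le ?_
    have := hNL hg
    have he' : Zl = B := he
    rwa [he'] at this
  have hZlc : Nat.card Zl = r := card_eq_of_lt_of_ne_bot hBc hZllt hZlne
  obtain ⟨H, hH, hNH⟩ := minSimple_exists_coatom hG
    (minSimple_normalizer_ne_top hG hZlne
      (minSimple_ne_top_of_isPGroup hG (hSr.isPGroup.to_le (inf_le_left.trans hBSr))))
  have hSrH : Sr ≤ H := (le_centralizer_iff.1 (inf_le_right : Zl ≤ _)).trans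
    ((centralizer_le_normalizer _).trans hNH)
  have hHM : H ≠ M := by
    intro e
    subst e
    have e := hRtop hSrH
    subst e
    exact hgM (hNH (hNL hg))
  have hrH : r ∈ Cfsg.sigma H := sigma_of_sylow_top F hSr hSrH hSrne (hNL.trans hNH)
  have hSH : S ≤ H := (le_centralizer_iff.1 ((inf_le_left : Zl ≤ B).trans (hBO.trans hOS))).trans
    ((centralizer_le_normalizer _).trans hNH)
  have hdis : S ⊓ Cfsg.sigmaCore H = ⊥ :=
    sigmaCore_inf_eq_bot_of_le F hG hM hH hHM (h.isNilpotent_sigmaCore hG F) hSH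
  have hRH : R ≤ Cfsg.sigmaCore H :=
    pGroup_le_sigmaCore F hH hrH (hRSr.trans hSrH) hR.isPGroup
  have hRS : R ≤ centralizer (S : Set G) := by
    rw [← commutator_eq_bot_iff_le_centralizer, eq_bot_iff, ← hdis, commutator_le]
    intro x hx s hs
    refine mem_inf.2 ⟨?_, ?_⟩
    · rw [commutatorElement_def]
      exact mul_mem (conj_mem_of_mem_normalizer (le_normalizer_sigmaCore M (hR.le hx)) hs)
        (inv_mem hs)
    · rw [commutatorElement_def, show x * s * x⁻¹ * s⁻¹ = x * (s * x⁻¹ * s⁻¹) by group]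
      exact mul_mem (hRH hx)
        (conj_mem_of_mem_normalizer (le_normalizer_sigmaCore H (hSH hs)) (inv_mem (hRH hx)))
  -- so a conjugate of `S` by `g` lies in `M`
  have hgS : S.map (MulAut.conj g).toMonoidHom ≤ M := by
    refine le_trans (le_trans ?_ (centralizer_le hBR)) hCB
    rw [← map_conj_eq_self_iff.2 hg, ← le_centralizer_iff]
    have := map_mono (f := (MulAut.conj g).toMonoidHom) hRS
    rw [map_conj_centralizer] at this
    refine this.trans (le_of_eq ?_)
    rw [coe_map]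
    rfl
  have hgS' : S.map (MulAut.conj g).toMonoidHom ≤ S :=
    le_sigmaCore F hM hgS (isPiSubgroup_map _ (isPiSubgroup_sigmaCore M))
  refine hgM ?_
  have hNS : normalizer (S : Set G) = M :=
    (hM.le_iff.1 (le_normalizer_sigmaCore M)).resolve_left (minSimple_normalizer_ne_top hG hSne
      fun ht => hMne (top_le_iff.1 (ht ▸ sigmaCore_le M)))
  rw [← hNS, ← map_conj_eq_self_iff]
  exact Subgroup.eq_of_le_of_card_ge hgS' (card_map_conj S g).ge

/-- If `O_r(C_M(M_σ) ∩ M') ≠ 1` then `M` is exceptional for `r`, with respect to a normal line. -/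
theorem Exceptional.exists_keyLine [Fact p.Prime] [Fact r.Prime] {M A A₀ : Subgroup G}
    (h : Exceptional p M A A₀) (hr : r ∉ Cfsg.sigma M) (hne : keyCore r M ≠ ⊥) :
    ∃ Y : Subgroup G, Y ≤ keyCore r M ∧ Nat.card Y = r ∧ M ≤ normalizer (Y : Set G) ∧
      normalizer (Y : Set G) ≤ M ∧
      (∀ W : Subgroup G, W ≤ keyCore r M → W ≠ ⊥ → Y ≤ W) ∧
      (∀ x ∈ keyCore r M, x ^ r = 1 → x ∈ Y) ∧
      (∀ R : Subgroup G, IsSylowIn r R M → Y ≤ R ∧
        ∃ B : Subgroup G, B ≤ R ∧ Exceptional r M B Y) ∧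
      ∀ B : Subgroup G, B ≤ M → Cfsg.IsElementaryAbelian r B → Nat.card B = r ^ 2 →
        Exceptional r M B Y := by
  set O := keyCore r M with hO
  haveI : IsCyclic O := h.isCyclic_keyCore hG F hr
  have hOp : IsPGroup r O := isPGroup_keyCore r M
  obtain ⟨y, hy, -, hyo⟩ := exists_central_of_isPGroup hOp hne
  set Y := zpowers y with hY
  have hYc : Nat.card Y = r := by rw [hY, Nat.card_zpowers, hyo]
  have hYO : Y ≤ O := zpowers_le.2 hy
  have huniq : ∀ x ∈ O, x ^ r = 1 → x ∈ Y := by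
    intro x hx hxp
    by_cases hx1 : x = 1
    · exact hx1 ▸ one_mem _
    have hxc : Nat.card (zpowers x) = r := by
      rw [Nat.card_zpowers]; exact orderOf_eq_prime hxp hx1
    have h2 : (zpowers x).subgroupOf O = Y.subgroupOf O := by
      refine eq_of_card_eq_of_isCyclic ?_
      rw [Nat.card_congr (subgroupOfEquivOfLe (zpowers_le.2 hx)).toEquiv,
        Nat.card_congr (subgroupOfEquivOfLe hYO).toEquiv, hxc, hYc]
    have h3 : (⟨x, hx⟩ : O) ∈ Y.subgroupOf O := by
      rw [← h2]; exact mem_zpowers x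
    exact h3
  have hMn : M ≤ normalizer (Y : Set G) := by
    intro g hg
    refine ConjFunctor.mem_normalizer_of_forall_conj_mem fun x hx => ?_
    refine huniq _ (conj_mem_of_mem_normalizer (le_normalizer_keyCore r M hg) (hYO hx)) ?_
    rw [conj_pow, show x ^ r = 1 from orderOf_dvd_iff_pow_eq_one.1 (by
      rw [← hYc]
      exact Subgroup.orderOf_dvd_natCard Y hx)]
    group
  have hM := h.maximal
  have hYne : Y ≠ ⊥ := ne_bot_of_card_prime hYc
  have hYM : Y ≤ M := hYO.trans (keyCore_le r M)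
  have hNY : normalizer (Y : Set G) ≤ M :=
    ((hM.le_iff.1 hMn).resolve_left (minSimple_normalizer_ne_top hG hYne
      fun ht => hM.1 (top_le_iff.1 (ht ▸ hYM)))).le
  have hrM : r ∣ Nat.card M := hYc ▸ card_dvd_of_le hYM
  have hr2 : r ≠ 2 := minSimple_prime_ne_two_subgroup hG hrM
  have hYR : ∀ R : Subgroup G, IsSylowIn r R M → Y ≤ R := fun R hR =>
    le_sup_right.trans (le_of_isPGroup_of_le_sylowIn hR
      (hR.isPGroup.to_sup_of_normal_right' (hOp.to_le hYO) (hR.le.trans hMn)) le_sup_left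
      (sup_le hR.le hYM))
  have hBY : ∀ B : Subgroup G, B ≤ M → Cfsg.IsElementaryAbelian r B → Nat.card B = r ^ 2 →
      Exceptional r M B Y := by
    intro B hBM hBe hBc
    refine ⟨hM, hr, hBM, hBe, hBc, ?_, hYc, hNY⟩
    obtain ⟨R, hBR, hR⟩ := exists_isSylowIn_ge hBM (isPGroup_of_isElementaryAbelian hBe)
    have hYcent : Y ≤ centralizer (B : Set G) := le_centralizer_iff.1
      (hBR.trans (le_centralizer_of_card_prime hR.isPGroup hYc (hR.le.trans hMn)))
    exact zpowers_le.2 ((maxElem_of_not_sigma F hM hr hBM hBe hBc).mem hBe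
      (hyo ▸ pow_orderOf_eq_one y) (hYcent (mem_zpowers y)))
  have hrk : ¬ Cfsg.PRankLE r 1 M := by
    intro h1
    obtain ⟨R, hR⟩ := exists_isSylowIn (p := r) M
    haveI := isCyclic_of_pRankLE_one hR.le hR.isPGroup hr2 h1
    refine hr (sigma_of_normalizer_le hrM hR (le_trans ?_ hNY))
    intro g hg
    rw [← map_conj_eq_self_iff]
    have hle : Y.map (MulAut.conj g).toMonoidHom ≤ R :=
      map_conj_eq_self_iff.2 hg ▸ map_mono (hYR R hR)
    have h2 : (Y.map (MulAut.conj g).toMonoidHom).subgroupOf R = Y.subgroupOf R := by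
      refine eq_of_card_eq_of_isCyclic ?_
      rw [Nat.card_congr (subgroupOfEquivOfLe hle).toEquiv,
        Nat.card_congr (subgroupOfEquivOfLe (hYR R hR)).toEquiv, card_map_conj]
    rw [← map_subgroupOf_eq_of_le hle, h2, map_subgroupOf_eq_of_le (hYR R hR)]
  refine ⟨Y, hYO, hYc, hMn, hNY, ?_, huniq, ?_, hBY⟩
  · intro W hW hWne
    obtain ⟨w, hw, -, hwo⟩ := exists_central_of_isPGroup (hOp.to_le hW) hWne
    have hwY : w ∈ Y := huniq w (hW hw) (hwo ▸ pow_orderOf_eq_one w)
    rw [← zpowers_eq_of_card hYc hwY fun e => by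
      rw [e, orderOf_one] at hwo
      exact (Fact.out : r.Prime).one_lt.ne hwo]
    exact zpowers_le.2 hw
  · intro R hR
    refine ⟨hYR R hR, ?_⟩
    obtain ⟨B, hBM, hBe, hBc⟩ := exists_card_sq_of_not_pRankLE_one hrk
    obtain ⟨R', hBR', hR'⟩ := exists_isSylowIn_ge hBM (isPGroup_of_isElementaryAbelian hBe)
    obtain ⟨m, hm, he⟩ := hR.exists_cj_eq hR'
    have hle : B.map (MulAut.conj m).toMonoidHom ≤ R := he ▸ map_mono hBR'
    exact ⟨_, hle, hBY _ (hle.trans hR.le) (isElementaryAbelian_map _ hBe)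
      (by rw [card_map_conj, hBc])⟩

end CfsgLib.OddOrder.BG11
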