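import Cfsg.Agent.OddOrder.BG11.Basic
import Cfsg.Agent.OddOrder.BG7.Transitive
import Cfsg.Agent.OddOrder.BG7.SCN
import Cfsg.Agent.OddOrder.BG3.KernelNilpotent
import Cfsg.Agent.OddOrder.BG9.Noncyclic

/-!
# BG 11: exceptional maximal subgroups

`Exceptional p M A A₀`: `p ∉ σ(M)`, `A ≤ M` is elementary abelian of order `p ^ 2` and `A₀ ≤ A` is a
line with `N(A₀) ≤ M`.
-/

set_option autoImplicit false
set_option linter.style.haveILetI false
set_option linter.unusedSectionVars false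

namespace CfsgLib.OddOrder.BG11

open Cfsg Subgroup
open CfsgLib.ConjFunctor (IsSylowIn exists_isSylowIn_ge)
open scoped commutatorElement

/-- The hypothesis of BG 11. -/
structure Exceptional {G : Type*} [Group G] (p : ℕ) (M A A₀ : Subgroup G) : Prop where
  maximal : IsCoatom M
  not_sigma : p ∉ Cfsg.sigma M
  le : A ≤ M
  elem : Cfsg.IsElementaryAbelian p A
  card : Nat.card A = p ^ 2
  line_le : A₀ ≤ A
  line_card : Nat.card A₀ = p
  normalizer_le : normalizer (A₀ : Set G) ≤ M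

variable {G : Type*} [Group G] [Finite G] {p q : ℕ} [Fact p.Prime] {M H A A₀ P : Subgroup G}

theorem le_normalizer_inf_of_le {A B C : Subgroup G} (hB : A ≤ normalizer (B : Set G))
    (hC : A ≤ normalizer (C : Set G)) : A ≤ normalizer ((B ⊓ C : Subgroup G) : Set G) :=
  (le_inf hB hC).trans inf_normalizer_le_normalizer_inf

theorem dvd_card_of_le_sq {A : Subgroup G} (hc : Nat.card A = p ^ 2) (hAM : A ≤ M) :
    p ∣ Nat.card M :=
  (hc ▸ dvd_pow_self p two_ne_zero).trans (card_dvd_of_le hAM)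

/-- A `p`-group and a subgroup of order prime to `p` have coprime orders. -/
theorem coprime_card_of_not_dvd {A D : Subgroup G} (hA : IsPGroup p A)
    (hD : ¬ p ∣ Nat.card D) : (Nat.card A).Coprime (Nat.card D) := by
  obtain ⟨n, hn⟩ := IsPGroup.iff_card.1 hA
  rw [hn]
  exact ((Fact.out : p.Prime).coprime_iff_not_dvd.2 hD).pow_left n

theorem not_dvd_card_sigmaCore (hp : p ∉ Cfsg.sigma M) : ¬ p ∣ Nat.card (Cfsg.sigmaCore M) :=
  fun h => hp (isPiSubgroup_sigmaCore M p Fact.out h)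

/-- An invariant Sylow subgroup of `G` is a maximal invariant subgroup. -/
theorem mem_maxInv_of_sylow [Fact q.Prime] {Q A : Subgroup G} (hQ : IsSylowIn q Q ⊤)
    (hn : A ≤ normalizer (Q : Set G)) : Q ∈ Cfsg.maxInvSubgroups ⊤ A {q} := by
  refine ⟨⟨le_top, isPiSubgroup_of_isPGroup hQ.isPGroup rfl, hn⟩, fun R hR hle => ?_⟩
  exact hQ.eq_of_le hle le_top (isPGroup_of_isPiSubgroup hR.2.1)

/-- An invariant Sylow subgroup of `M_σ` through an invariant subgroup is one of `G`. -/
theorem exists_invariant_sylow_sigmaCore (F : BG10Facts G) (hM : IsCoatom M) [Fact q.Prime]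
    (hq : q ∈ Cfsg.sigma M) {A U : Subgroup G} (hA : IsPGroup p A) (hp : ¬ p ∣ Nat.card (Cfsg.sigmaCore M))
    (hAM : A ≤ M) (hU : U ≤ Cfsg.sigmaCore M) (hUq : IsPGroup q U)
    (hUA : A ≤ normalizer (U : Set G)) :
    ∃ Q, U ≤ Q ∧ Q ≤ Cfsg.sigmaCore M ∧ IsSylowIn q Q M ∧ IsSylowIn q Q ⊤ ∧
      A ≤ normalizer (Q : Set G) := by
  haveI := hA.isNilpotent
  obtain ⟨S, hUS, hAS⟩ := Coprime.exists_invariant_sylow_ge
    (hAM.trans (le_normalizer_sigmaCore M)) (coprime_card_of_not_dvd hA hp)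
    (Or.inl inferInstance) hU hUq hUA
  have hSσ : (S : Subgroup _).map (Cfsg.sigmaCore M).subtype ≤ Cfsg.sigmaCore M := map_subtype_le _
  obtain ⟨T, hST, hT⟩ := exists_isSylowIn_ge (hSσ.trans (sigmaCore_le M)) (S.2.map _)
  have hTS : T = (S : Subgroup _).map (Cfsg.sigmaCore M).subtype :=
    (isSylowIn_map_subtype S).eq_of_le hST (pGroup_le_sigmaCore F hM hq hT.le hT.isPGroup) hT.isPGroup
  subst hTS
  exact ⟨_, hUS, hSσ, hT, isSylowIn_top_of_sigma F hM hq hT, hAS⟩

variable (hG : Cfsg.IsMinSimpleOddOrder G) (F : BG10Facts G)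
include hG F

theorem Exceptional.dvd_card (h : Exceptional p M A A₀) : p ∣ Nat.card M :=
  dvd_card_of_le_sq h.card h.le

theorem Exceptional.ne_two (h : Exceptional p M A A₀) : p ≠ 2 :=
  minSimple_prime_ne_two_subgroup hG (h.dvd_card hG F)

theorem Exceptional.maxElem (h : Exceptional p M A A₀) : MaxElem p A :=
  maxElem_of_not_sigma F h.maximal h.not_sigma h.le h.elem h.card

theorem Exceptional.centralizer_le_maximal (h : Exceptional p M A A₀) :
    centralizer (A : Set G) ≤ M :=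
  (centralizer_le h.line_le).trans ((centralizer_le_normalizer _).trans h.normalizer_le)

theorem transitivityHypothesis_of_maxElem {A : Subgroup G} (hA : Cfsg.IsElementaryAbelian p A)
    (hmax : MaxElem p A) (hp : p ∣ Nat.card G) : Cfsg.TransitivityHypothesis A :=
  transitivityHypothesis_of_elementary hG (isPGroup_of_isElementaryAbelian hA) hA.1 hp
    (fun _ hx => hmax.pow_iff hA hx) (fun H hH => F.pLengthOne p H hH)

/-- Two invariant Sylow `q`-subgroups of `G` meeting a proper `H ≥ A` nontrivially are conjugate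
under `C(A)`. -/
theorem Exceptional.conj_of_meet (h : Exceptional p M A A₀) [Fact q.Prime] (hqp : q ≠ p)
    {Q₁ Q₂ K : Subgroup G} (h₁ : IsSylowIn q Q₁ ⊤) (h₂ : IsSylowIn q Q₂ ⊤)
    (hn₁ : A ≤ normalizer (Q₁ : Set G)) (hn₂ : A ≤ normalizer (Q₂ : Set G)) (hK : K ≠ ⊤)
    (hAK : A ≤ K) (hK₁ : K ⊓ Q₁ ≠ ⊥) (hK₂ : K ⊓ Q₂ ≠ ⊥) :
    ∃ c ∈ M, Q₂ = Q₁.map (MulAut.conj c).toMonoidHom := by
  have hT := transitivityHypothesis_of_maxElem hG F h.elem (h.maxElem hG F)
    ((h.dvd_card hG F).trans (card_subgroup_dvd_card M))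
  have hqA : ¬ q ∣ Nat.card A := by
    rw [h.card]
    exact fun hd => hqp ((Nat.prime_dvd_prime_iff_eq Fact.out Fact.out).1
      ((Fact.out : q.Prime).dvd_of_dvd_pow hd))
  obtain ⟨c, hc, e⟩ := transHyp_meet_conj hG hT Fact.out hqA (mem_maxInv_of_sylow h₁ hn₁)
    (mem_maxInv_of_sylow h₂ hn₂) hK hAK hK₁ hK₂
  exact ⟨c, h.centralizer_le_maximal hG F (piCoreOf_le _ _ hc), e⟩

/-- BG 11.1(a), 11.2(a). -/
theorem Exceptional.sigmaCore_inf_conj (h : Exceptional p M A A₀) {g : G} (hg : g ∉ M)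
    (hAg : A ≤ M.map (MulAut.conj g).toMonoidHom) :
    Cfsg.sigmaCore M ⊓ M.map (MulAut.conj g).toMonoidHom = ⊥ := by
  set M' := M.map (MulAut.conj g).toMonoidHom with hM'def
  have hM' : IsCoatom M' := isCoatom_map_conj h.maximal g
  set D := Cfsg.sigmaCore M ⊓ M' with hD
  by_contra hne
  have hne1 : Nat.card D ≠ 1 := fun h1 => hne (Subgroup.card_eq_one.1 h1)
  obtain ⟨r, hr, hrD⟩ := Nat.exists_prime_and_dvd hne1
  haveI := Fact.mk hr
  have hAp := isPGroup_of_isElementaryAbelian h.elem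
  have hps := not_dvd_card_sigmaCore h.not_sigma
  have hrs : r ∈ Cfsg.sigma M :=
    isPiSubgroup_sigmaCore M r hr (hrD.trans (card_dvd_of_le inf_le_left))
  have hrp : r ≠ p := fun e => h.not_sigma (e ▸ hrs)
  haveI := hAp.isNilpotent
  have hAD : A ≤ normalizer (D : Set G) :=
    le_normalizer_inf_of_le (h.le.trans (le_normalizer_sigmaCore M)) (hAg.trans le_normalizer)
  obtain ⟨S, hAS⟩ := Coprime.exists_invariant_sylow hAD
    (coprime_card_of_not_dvd hAp fun hd => hps (hd.trans (card_dvd_of_le inf_le_left)))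
    (Or.inl inferInstance) r
  set U := (S : Subgroup D).map D.subtype with hUdef
  have hUD : U ≤ D := map_subtype_le _
  have hUne : U ≠ ⊥ := sylowIn_ne_bot (isSylowIn_map_subtype S) hrD
  have hUM' : U ≤ Cfsg.sigmaCore M' := by
    refine pGroup_le_sigmaCore F hM' ?_ (hUD.trans inf_le_right) (S.2.map _)
    rwa [hM'def, sigma_map_conj]
  obtain ⟨Q₁, hUQ₁, hQ₁s, hQ₁, hQ₁top, hn₁⟩ := exists_invariant_sylow_sigmaCore F h.maximal hrs hAp
    hps h.le (hUD.trans inf_le_left) (S.2.map _) hAS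
  have hrs' : r ∈ Cfsg.sigma M' := by rwa [hM'def, sigma_map_conj]
  have hps' : ¬ p ∣ Nat.card (Cfsg.sigmaCore M') := by
    refine not_dvd_card_sigmaCore ?_
    rw [hM'def, sigma_map_conj]; exact h.not_sigma
  obtain ⟨Q₂, hUQ₂, hQ₂s, hQ₂, hQ₂top, hn₂⟩ := exists_invariant_sylow_sigmaCore F hM' hrs' hAp hps'
    hAg hUM' (S.2.map _) hAS
  have hNU : normalizer (U : Set G) ≠ ⊤ :=
    minSimple_normalizer_ne_top hG hUne (minSimple_ne_top_of_isPGroup hG (S.2.map _))
  obtain ⟨c, hc, e⟩ := h.conj_of_meet hG F hrp hQ₁top hQ₂top hn₁ hn₂ hNU hAS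
    (fun hb => hUne (le_bot_iff.1 (hb ▸ le_inf le_normalizer hUQ₁)))
    (fun hb => hUne (le_bot_iff.1 (hb ▸ le_inf le_normalizer hUQ₂)))
  have hQ₂M : Q₂ ≤ M := by
    rw [e, ← map_conj_eq_self_of_mem hc]
    exact map_mono hQ₁.le
  have heq : M' = M := eq_of_conj_of_normalizer_le F hG h.maximal hrs hQ₂.isPGroup
    (fun hb => hUne (le_bot_iff.1 (hb ▸ hUQ₂))) hQ₂M (normalizer_le_of_sigma hrs' hQ₂) hM'def
  rw [← minSimple_normalizer_coatom hG h.maximal] at hg
  exact hg (map_conj_eq_self_iff.1 (hM'def ▸ heq))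

/-- BG 11.2(b): a conjugate of `A₀` under an element outside `M` acts without fixed points. -/
theorem Exceptional.inf_centralizer_conj (h : Exceptional p M A A₀) {g : G} (hg : g ∉ M)
    (hAg : A ≤ M.map (MulAut.conj g).toMonoidHom) :
    Cfsg.sigmaCore M ⊓
      centralizer ((A₀.map (MulAut.conj g).toMonoidHom : Subgroup G) : Set G) = ⊥ := by
  rw [eq_bot_iff, ← h.sigmaCore_inf_conj hG F hg hAg]
  refine inf_le_inf_left _ ((centralizer_le_normalizer _).trans ?_)
  rw [← map_conj_normalizer]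
  exact map_mono h.normalizer_le

/-- A fixed point free conjugate of the line, inside any Sylow subgroup containing `A`. -/
theorem Exceptional.exists_fpf (h : Exceptional p M A A₀) (hP : IsSylowIn p P M) (hAP : A ≤ P) :
    ∃ g ∈ normalizer (P : Set G), g ∉ M ∧ A₀.map (MulAut.conj g).toMonoidHom ≤ P ∧
      Cfsg.sigmaCore M ⊓
        centralizer ((A₀.map (MulAut.conj g).toMonoidHom : Subgroup G) : Set G) = ⊥ := by
  obtain ⟨g, hg, hgM⟩ := not_normalizer_le (h.dvd_card hG F) h.not_sigma hP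
  have hP' := map_conj_eq_self_iff.2 hg
  refine ⟨g, hg, hgM, ?_, h.inf_centralizer_conj hG F hgM ?_⟩
  · rw [← hP']
    exact map_mono (h.line_le.trans hAP)
  · refine hAP.trans ?_
    rw [← hP']
    exact map_mono hP.le

/-- BG 11.3: `M_σ` is nilpotent. -/
theorem Exceptional.isNilpotent_sigmaCore (h : Exceptional p M A A₀) :
    Group.IsNilpotent (Cfsg.sigmaCore M) := by
  obtain ⟨P, hAP, hP⟩ := exists_isSylowIn_ge h.le (isPGroup_of_isElementaryAbelian h.elem)
  obtain ⟨g, -, -, hle, hfix⟩ := h.exists_fpf hG F hP hAP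
  refine isNilpotent_of_prime_fpf (minSimple_solvable hG fun ht => h.maximal.1 (top_le_iff.1
    (ht ▸ sigmaCore_le M))) ((hle.trans hP.le).trans (le_normalizer_sigmaCore M)) ?_ hfix
  rw [card_map_conj, h.line_card]
  exact Fact.out

/-- BG 11.4. -/
theorem Exceptional.sigmaCore_inf_sigmaCore (h : Exceptional p M A A₀) (hH : IsCoatom H)
    (hAH : A ≤ H) (hne : H ≠ M) : Cfsg.sigmaCore H ⊓ Cfsg.sigmaCore M = ⊥ := by
  set D := Cfsg.sigmaCore H ⊓ Cfsg.sigmaCore M with hD
  by_contra hbot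
  obtain ⟨r, hr, hrD⟩ := Nat.exists_prime_and_dvd
    (show Nat.card D ≠ 1 from fun h1 => hbot (Subgroup.card_eq_one.1 h1))
  haveI := Fact.mk hr
  have hAp := isPGroup_of_isElementaryAbelian h.elem
  have hps := not_dvd_card_sigmaCore h.not_sigma
  have hrs : r ∈ Cfsg.sigma M :=
    isPiSubgroup_sigmaCore M r hr (hrD.trans (card_dvd_of_le inf_le_right))
  have hrH : r ∈ Cfsg.sigma H :=
    isPiSubgroup_sigmaCore H r hr (hrD.trans (card_dvd_of_le inf_le_left))
  have hrp : r ≠ p := fun e => h.not_sigma (e ▸ hrs)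
  haveI := hAp.isNilpotent
  have hAD : A ≤ normalizer (D : Set G) :=
    le_normalizer_inf_of_le (hAH.trans (le_normalizer_sigmaCore H))
      (h.le.trans (le_normalizer_sigmaCore M))
  obtain ⟨S, hAS⟩ := Coprime.exists_invariant_sylow hAD
    (coprime_card_of_not_dvd hAp fun hd => hps (hd.trans (card_dvd_of_le inf_le_right)))
    (Or.inl inferInstance) r
  set U := (S : Subgroup D).map D.subtype with hUdef
  have hUD : U ≤ D := map_subtype_le _
  have hUne : U ≠ ⊥ := sylowIn_ne_bot (isSylowIn_map_subtype S) hrD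
  obtain ⟨Q₁, hUQ₁, hQ₁s, hQ₁, hQ₁top, hn₁⟩ := exists_invariant_sylow_sigmaCore F h.maximal hrs hAp
    hps h.le (hUD.trans inf_le_right) (S.2.map _) hAS
  -- an `A`-invariant Sylow subgroup of `H` meeting a proper overgroup of `A` where `Q₁` does
  obtain ⟨Q₂, K, hQ₂, hn₂, hK, hAK, hK₁, hK₂⟩ : ∃ Q K : Subgroup G, IsSylowIn r Q H ∧
      A ≤ normalizer (Q : Set G) ∧ K ≠ ⊤ ∧ A ≤ K ∧ K ⊓ Q₁ ≠ ⊥ ∧ K ⊓ Q ≠ ⊥ := by
    by_cases hpH : p ∈ Cfsg.sigma H
    · have hAd : A ≤ ⁅H, H⁆ :=
        (pGroup_le_sigmaCore F hH hpH hAH hAp).trans (sigmaCore_le_derived F hG hH)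
      have hUd : U ≤ ⁅H, H⁆ :=
        (hUD.trans inf_le_left).trans (sigmaCore_le_derived F hG hH)
      have hrb : r ∈ {s | s.Prime ∧ s ∉ Cfsg.beta H} := by
        refine ⟨hr, fun hb => ?_⟩
        obtain ⟨-, g, hg⟩ := exists_conj_of_alpha F hG h.maximal hH hrs hb.1
        rw [hg, sigma_map_conj] at hpH
        exact h.not_sigma hpH
      have hpb : p ∈ {s | s.Prime ∧ s ∉ Cfsg.beta H} :=
        ⟨Fact.out, fun hb => (F.rankTwo M h.maximal p h.not_sigma
          (pRankLE_two_of_not_sigma F h.maximal h.not_sigma)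
          (not_pRankLE_one_of_card_sq h.le h.elem h.card)).1 hb.2⟩
      have hcU : A ≤ centralizer (U : Set G) :=
        le_centralizer_of_betaPrime F hG hH hAd hUd hAS (isPiSubgroup_of_isPGroup hAp hpb)
          (isPiSubgroup_of_isPGroup (S.2.map _) hrb)
          (coprime_card_of_not_dvd hAp fun hd =>
            hps (hd.trans (card_dvd_of_le (hUD.trans inf_le_right))))
      -- a nilpotent Hall subgroup of `H'` through `A`
      obtain ⟨⟨L, hL, hLn⟩, -⟩ := F.betaHall H hH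
      set W := ⁅H, H⁆ with hW
      have hWH : W ≤ H := commutator_le_self H
      haveI : Group.IsSolvable W :=
        minSimple_solvable hG fun ht => hH.1 (top_le_iff.1 (ht ▸ hWH))
      obtain ⟨g, hg⟩ := Solvable.exists_conj_le_isPiHall (H := L.subgroupOf W)
        ⟨isPiSubgroup_subgroupOf hL.2.1, hL.2.2⟩
        (isPiSubgroup_subgroupOf (isPiSubgroup_of_isPGroup hAp hpb) :
          IsPiSubgroup {s | s.Prime ∧ s ∉ Cfsg.beta H} (A.subgroupOf W))
      have hAL : A.map (MulAut.conj (g : G)).toMonoidHom ≤ L := by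
        rintro _ ⟨x, hx, rfl⟩
        have := hg (Coprime.conj_mem_conj_smul (g := g)
          (show (⟨x, hAd hx⟩ : W) ∈ A.subgroupOf W from hx))
        simpa [mem_subgroupOf] using this
      obtain ⟨T, hT⟩ := exists_isSylowIn (p := r) L
      have hTH : IsSylowIn r T H := by
        obtain ⟨T', hTT', hT'⟩ := exists_isSylowIn_ge (hT.le.trans (hL.1.trans hWH)) hT.isPGroup
        have hT'W : T' ≤ W :=
          (pGroup_le_sigmaCore F hH hrH hT'.le hT'.isPGroup).trans (sigmaCore_le_derived F hG hH)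
        have hTW : IsSylowIn r T W := ⟨hT.le.trans hL.1, hT.isPGroup, fun hd => by
          rw [← relIndex_mul_relIndex T L W hT.le hL.1] at hd
          exact ((Fact.out : r.Prime).dvd_mul.1 hd).elim hT.not_dvd (hL.2.2 r hr hrb)⟩
        exact hTW.eq_of_le hTT' hT'W hT'.isPGroup ▸ hT'
      have hcT : A.map (MulAut.conj (g : G)).toMonoidHom ≤ centralizer (T : Set G) :=
        le_centralizer_of_coprime_nilpotent hLn hAL hT.le (by
          rw [card_map_conj]
          exact coprime_card_of_not_dvd hAp fun hd => by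
            obtain ⟨k, hk⟩ := IsPGroup.iff_card.1 hT.isPGroup
            rw [hk] at hd
            exact hrp ((Nat.prime_dvd_prime_iff_eq Fact.out hr).1
              ((Fact.out : p.Prime).dvd_of_dvd_pow hd)).symm)
      set Q := T.map (MulAut.conj (g : G)⁻¹).toMonoidHom with hQdef
      have hcQ : A ≤ centralizer (Q : Set G) := by
        intro a ha
        rw [mem_centralizer_iff]
        rintro _ ⟨x, hx, rfl⟩
        have := mem_centralizer_iff.1 (hcT (mem_map_of_mem _ ha)) x hx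
        simp only [MulEquiv.coe_toMonoidHom, MulAut.conj_apply, inv_inv] at this ⊢
        calc (g : G)⁻¹ * x * g * a = (g : G)⁻¹ * (x * (g * a * (g : G)⁻¹)) * g := by group
          _ = (g : G)⁻¹ * ((g * a * (g : G)⁻¹) * x) * g := by rw [this]
          _ = a * ((g : G)⁻¹ * x * g) := by group
      have hQH : IsSylowIn r Q H := by
        have h1 := hTH.cj (g : G)⁻¹
        rwa [map_conj_eq_self_of_mem (inv_mem (hWH g.2))] at h1
      refine ⟨Q, centralizer (A : Set G), hQH, hcQ.trans (centralizer_le_normalizer _),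
        minSimple_centralizer_subgroup_ne_top hG ?_, le_centralizer_self h.elem.1,
        fun hb => hUne (le_bot_iff.1 (hb ▸ le_inf (le_centralizer_iff.1 hcU) hUQ₁)),
        fun hb => sylowIn_ne_bot hQH (dvd_card_of_sigma hrH)
          (le_bot_iff.1 (hb ▸ le_inf (le_centralizer_iff.1 hcQ) le_rfl))⟩
      intro hA1
      have := h.card
      rw [hA1, card_bot] at this
      exact (Nat.one_lt_pow two_ne_zero (Fact.out : p.Prime).one_lt).ne this
    · obtain ⟨Q, hUQ, -, hQ, -, hn⟩ := exists_invariant_sylow_sigmaCore F hH hrH hAp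
        (not_dvd_card_sigmaCore hpH) hAH (hUD.trans inf_le_left) (S.2.map _) hAS
      exact ⟨Q, normalizer (U : Set G), hQ, hn,
        minSimple_normalizer_ne_top hG hUne (minSimple_ne_top_of_isPGroup hG (S.2.map _)), hAS,
        fun hb => hUne (le_bot_iff.1 (hb ▸ le_inf le_normalizer hUQ₁)),
        fun hb => hUne (le_bot_iff.1 (hb ▸ le_inf le_normalizer hUQ))⟩
  have hQ₂top := isSylowIn_top_of_sigma F hH hrH hQ₂
  obtain ⟨c, hc, e⟩ := h.conj_of_meet hG F hrp hQ₁top hQ₂top hn₁ hn₂ hK hAK hK₁ hK₂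
  have hQ₂M : IsSylowIn r Q₂ M := by
    rw [e, ← map_conj_eq_self_of_mem hc]
    exact hQ₁.cj c
  have hnil := h.isNilpotent_sigmaCore hG F
  have hn : M ≤ normalizer (Q₂ : Set G) := by
    haveI := hnil
    have hQ₂s := pGroup_le_sigmaCore F h.maximal hrs hQ₂M.le hQ₂M.isPGroup
    set P : Sylow r (Cfsg.sigmaCore M) := (hQ₂M.isPGroup.comap_subtype).toSylow
      (show ¬ r ∣ (Q₂.subgroupOf (Cfsg.sigmaCore M)).index from
        (hQ₂M.of_le hQ₂s (sigmaCore_le M)).not_dvd)
    intro g hg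
    refine ConjFunctor.mem_normalizer_of_forall_conj_mem fun x hx => ?_
    haveI : (P : Subgroup ↥(Cfsg.sigmaCore M)).Normal := by infer_instance
    haveI : (P : Subgroup ↥(Cfsg.sigmaCore M)).Characteristic :=
      P.characteristic_of_normal inferInstance
    obtain ⟨y, hy, hye⟩ := Stab.map_subtype_conj_mem (P : Subgroup ↥(Cfsg.sigmaCore M))
      (le_normalizer_sigmaCore M hg) (x := x) ⟨⟨x, hQ₂s hx⟩, hx, rfl⟩
    exact hye ▸ hy
  exact hne ((h.maximal.le_iff.1 (hn.trans (normalizer_le_of_sigma hrH hQ₂))).resolve_left hH.1)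

end CfsgLib.OddOrder.BG11
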