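import Cfsg.Agent.OddOrder.BG11.Exceptional
import Cfsg.Agent.LocalStructure.Tools
import Cfsg.Agent.OddOrder.BG4.Aut2

/-!
# BG 11.5 and 11.6: the Sylow subgroup of an exceptional maximal subgroup is abelian
-/

set_option autoImplicit false
set_option linter.style.haveILetI false
set_option linter.unusedSectionVars false

namespace CfsgLib.OddOrder.BG11

open Cfsg Subgroup
open CfsgLib.ConjFunctor (IsSylowIn exists_isSylowIn_ge)
open scoped commutatorElement

variable {G : Type*} [Group G] [Finite G] {p : ℕ} [Fact p.Prime] {M H A A₀ P S : Subgroup G}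

theorem conj_mem_of_mem_normalizer {g x : G} {T : Subgroup G} (hg : g ∈ normalizer (T : Set G))
    (hx : x ∈ T) : g * x * g⁻¹ ∈ T :=
  (mem_normalizer_iff.1 hg x).1 hx

theorem conj_mem_centralizer {g x : G} {T : Subgroup G} (hg : g ∈ normalizer (T : Set G))
    (hx : x ∈ centralizer (T : Set G)) : g * x * g⁻¹ ∈ centralizer (T : Set G) := by
  rw [mem_centralizer_iff]
  intro y hy
  have h1 := mem_centralizer_iff.1 hx (g⁻¹ * y * g)
    (by simpa using conj_mem_of_mem_normalizer (inv_mem hg) hy)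
  calc y * (g * x * g⁻¹) = g * ((g⁻¹ * y * g) * x) * g⁻¹ := by group
    _ = g * (x * (g⁻¹ * y * g)) * g⁻¹ := by rw [h1]
    _ = g * x * g⁻¹ * y := by group

/-- A group normalizing a `p`-group `P` normalizes the elements of exponent `p` of `A` central
in `P`, when `A` holds every such central element. -/
theorem le_normalizer_inf_centralizer_self (hA : Cfsg.IsElementaryAbelian p A) (hmax : MaxElem p A)
    (hAP : A ≤ P) :
    normalizer (P : Set G) ≤ normalizer ((A ⊓ centralizer (P : Set G) : Subgroup G) : Set G) := by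
  intro g hg
  refine ConjFunctor.mem_normalizer_of_forall_conj_mem fun x hx => ?_
  have h1 := conj_mem_centralizer hg hx.2
  exact ⟨hmax.mem hA (by rw [conj_pow, hA.2 x hx.1]; group) (centralizer_le hAP h1), h1⟩

theorem exists_central_of_isPGroup (hP : IsPGroup p P) (hne : P ≠ ⊥) :
    ∃ z ∈ P, z ∈ centralizer (P : Set G) ∧ orderOf z = p := by
  haveI : Nontrivial P := (nontrivial_iff_ne_bot P).2 hne
  obtain ⟨z, -, hzc, hzo⟩ := BG4.exists_central_orderOf_prime hP (N := (⊤ : Subgroup P)) top_ne_bot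
  refine ⟨z, z.2, mem_centralizer_iff.2 fun y hy => ?_, by rwa [Subgroup.orderOf_coe]⟩
  exact congrArg Subtype.val (mem_center_iff.1 hzc ⟨y, hy⟩)

theorem MaxElem.central_mem (hmax : MaxElem p A) (hA : Cfsg.IsElementaryAbelian p A) (hAP : A ≤ P)
    {z : G} (hz : z ∈ centralizer (P : Set G)) (hzp : orderOf z = p) :
    z ∈ A ⊓ centralizer (P : Set G) :=
  ⟨hmax.mem hA (hzp ▸ pow_orderOf_eq_one z) (centralizer_le hAP hz), hz⟩

theorem ne_bot_of_card_sq (hc : Nat.card A = p ^ 2) : A ≠ ⊥ := by
  intro h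
  rw [h, card_bot] at hc
  exact (Nat.one_lt_pow two_ne_zero (Fact.out : p.Prime).one_lt).ne hc

theorem ne_bot_of_card_prime {X : Subgroup G} (hc : Nat.card X = p) : X ≠ ⊥ := by
  intro h
  rw [h, card_bot] at hc
  exact (Fact.out : p.Prime).one_lt.ne hc

variable (hG : Cfsg.IsMinSimpleOddOrder G) (F : BG10Facts G)
include hG F

/-- An elementary abelian group of order `p ^ 2`, maximal and proper-centralized in a nonabelian
situation, is not inside the Frattini subgroup of its centralizer in a Sylow subgroup of `G`. -/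
theorem not_le_frattini_or_abelian (hS : IsSylowIn p S ⊤) (hAS : A ≤ S)
    (hA : Cfsg.IsElementaryAbelian p A) (hc : Nat.card A = p ^ 2) (hmax : MaxElem p A)
    (hlt : S ⊓ centralizer (A : Set G) < S) :
    ¬ A ≤ (frattini ↥(S ⊓ centralizer (A : Set G))).map (S ⊓ centralizer (A : Set G)).subtype := by
  intro hfr
  set P := S ⊓ centralizer (A : Set G) with hPdef
  have hPS : P ≤ S := inf_le_left
  have hp2 : p ≠ 2 := minSimple_prime_ne_two hG
    ((hc ▸ dvd_pow_self p two_ne_zero).trans (card_subgroup_dvd_card A))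
  by_cases hr : Cfsg.PRankLE p 2 S
  · rcases F.rankTwoSylow p hS.toSylowTop hr with hab | ⟨P₁, P₂, hgen, hcomm, hna, hc1, hexp, hcyc, hclo⟩
    · exact hlt.not_ge fun x hx => ⟨hx, mem_centralizer_iff.2 fun a ha =>
        congrArg Subtype.val (hab.is_comm.comm (⟨a, hAS ha⟩ : S) ⟨x, hx⟩)⟩
    change P₁ ⊔ P₂ = S at hgen
    have hn : P₁ ≤ normalizer (P₂ : Set G) := fun a ha => centralizer_le_normalizer _
      (mem_centralizer_iff.2 fun b hb => (hcomm a ha b hb).symm)
    have h1exp : ∀ a ∈ P₁, a ^ p = 1 := fun a ha => by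
      have := Monoid.pow_exponent_eq_one (⟨a, ha⟩ : P₁)
      rw [hexp] at this
      simpa using congrArg Subtype.val this
    obtain ⟨b₀, hb₀⟩ := hcyc.exists_generator
    have hdec : ∀ x ∈ S, ∃ a ∈ P₁, ∃ b ∈ P₂, x = a * b := by
      intro x hx
      rw [← hgen, ← SetLike.mem_coe, coe_mul_of_left_le_normalizer_right _ _ hn] at hx
      obtain ⟨a, ha, b, hb, rfl⟩ := Set.mem_mul.1 hx
      exact ⟨a, ha, b, hb, rfl⟩
    have hpow : ∀ a ∈ P₁, ∀ b ∈ P₂, (a * b) ^ p = b ^ p := fun a ha b hb => by
      rw [(show Commute a b from hcomm a ha b hb).mul_pow, h1exp a ha, one_mul]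
    have hA1 : A ≤ P₁ := by
      intro x hx
      obtain ⟨a, ha, b, hb, rfl⟩ := hdec x (hAS hx)
      have hbp : b ^ p = 1 := (hpow a ha b hb).symm.trans (hA.2 _ hx)
      have hbm : b ∈ Subgroup.closure {x : G | x ∈ P₂ ∧ x ^ p = 1} := subset_closure ⟨hb, hbp⟩
      exact mul_mem ha (by
        rw [hclo] at hbm
        exact hbm.1)
    have hP2 : P₂ ≤ centralizer (A : Set G) := fun b hb => mem_centralizer_iff.2 fun a ha =>
      hcomm a (hA1 ha) b hb
    have hPdec : ∀ x ∈ P, ∃ a ∈ A, ∃ b ∈ P₂, x = a * b := by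
      intro x hx
      obtain ⟨a, ha, b, hb, rfl⟩ := hdec x hx.1
      refine ⟨a, hmax.mem hA (h1exp a ha) ?_, b, hb, rfl⟩
      have h2 : a * b ∈ centralizer (A : Set G) := hx.2
      have := mul_mem h2 (inv_mem (hP2 hb))
      simpa using this
    haveI := hA.1
    haveI := hcyc.isMulCommutative
    have hPc : ∀ x ∈ P, ∀ y ∈ P, x * y = y * x := by
      intro x hx y hy
      obtain ⟨a, ha, b, hb, rfl⟩ := hPdec x hx
      obtain ⟨a', ha', b', hb', rfl⟩ := hPdec y hy
      have e1 : Commute a b' := mem_centralizer_iff.1 (hP2 hb') a ha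
      have e2 : Commute a' b := mem_centralizer_iff.1 (hP2 hb) a' ha'
      have e0 : Commute a a' := setLike_mul_comm (s := A) ha ha'
      have e3 : Commute b b' := setLike_mul_comm (s := P₂) hb hb'
      exact ((e0.mul_right e1).mul_left (e2.symm.mul_right e3)).eq
    set W : Subgroup G := zpowers (((b₀ : P₂) : G) ^ p) with hW
    have hfrW : (frattini P).map P.subtype ≤ W := by
      rw [map_le_iff_le_comap]
      refine LocalStructure.frattini_le_of_commutator_le_of_pow_mem (p := p) ?_ fun x => ?_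
      · rw [commutator_def, commutator_le]
        intro x _ y _
        rw [mem_comap, map_commutatorElement]
        show ⁅(x : G), (y : G)⁆ ∈ W
        rw [commutatorElement_eq_one_iff_mul_comm.2 (hPc _ x.2 _ y.2)]
        exact one_mem _
      · obtain ⟨a, ha, b, hb, e⟩ := hPdec x x.2
        obtain ⟨i, hi⟩ := mem_zpowers_iff.1 (hb₀ ⟨b, hb⟩)
        have hi' : ((b₀ : P₂) : G) ^ i = b := congrArg Subtype.val hi
        show ((x : G)) ^ p ∈ W
        rw [e, hpow a (hA1 ha) b hb, ← hi', ← zpow_natCast, ← zpow_mul, mul_comm, zpow_mul,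
          zpow_natCast]
        exact zpow_mem (mem_zpowers _) _
    have hAW : A ≤ W := hfr.trans hfrW
    have hcA : IsCyclic A := isCyclic_of_injective (Subgroup.inclusion hAW)
      (Subgroup.inclusion_injective hAW)
    exact not_isCyclic_of_card_sq hA hc hcA
  · obtain ⟨U, hUS, hUn, hUe, hUc⟩ : ∃ U : Subgroup G, U ≤ S ∧ S ≤ normalizer (U : Set G) ∧
        Cfsg.IsElementaryAbelian p U ∧ p ^ 3 ≤ Nat.card U := by
      obtain ⟨U₀, hn, hUe, hUc⟩ : ∃ U₀ : Subgroup S, U₀.Normal ∧
          Cfsg.IsElementaryAbelian p U₀ ∧ p ^ 3 ≤ Nat.card U₀ := by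
        by_contra hn
        simp only [not_exists, not_and, not_le] at hn
        refine hr (BG4.pRankLE_two_of_normal_le hp2 hS.isPGroup fun U hU hUe => ?_)
        obtain ⟨n, hn'⟩ := BG4.card_elementary_eq_pow hUe.2
        have := hn U hU hUe
        rw [hn'] at this ⊢
        have h3 := (Nat.pow_lt_pow_iff_right (Fact.out : p.Prime).one_lt).1 this
        exact Nat.pow_le_pow_right (Fact.out : p.Prime).pos (by omega)
      refine ⟨U₀.map S.subtype, map_subtype_le _, ?_, isElementaryAbelian_map S.subtype hUe, ?_⟩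
      · rw [← normal_subgroupOf_iff_le_normalizer (map_subtype_le _),
          show (U₀.map S.subtype).subgroupOf S = U₀ from
            comap_map_eq_self_of_injective S.subtype_injective _]
        exact hn
      · rwa [card_map_of_injective S.subtype_injective]
    haveI : (U.subgroupOf S).Normal := (normal_subgroupOf_iff_le_normalizer hUS).2 hUn
    obtain ⟨Z, hZn, hZU, hZc⟩ := BG4.exists_normal_card_le hS.isPGroup (U.subgroupOf S) 2 (by
      rw [Nat.card_congr (subgroupOfEquivOfLe hUS).toEquiv]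
      exact le_trans (Nat.pow_le_pow_right (Fact.out : p.Prime).pos (by norm_num)) hUc)
    haveI := hZn
    have hZp : ∀ v ∈ Z, v ^ p = 1 := fun v hv =>
      Subtype.ext (by simpa using hUe.2 _ (mem_subgroupOf.1 (hZU hv)))
    set C := centralizer (Z : Set S) with hC
    haveI : C.Normal := Subgroup.normal_centralizer
    have hidx : C.index ≤ p := BG4.index_centralizer_le hS.isPGroup hZp (le_of_eq hZc)
    obtain ⟨k, hk⟩ := hS.isPGroup.index C
    have hd : C.index ∣ p := by
      rcases Nat.lt_or_ge k 2 with hk1 | hk1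
      · rw [hk]
        conv_rhs => rw [← pow_one p]
        exact pow_dvd_pow p (by omega)
      · exfalso
        have h1 : p ^ 2 ≤ p ^ k := Nat.pow_le_pow_right (Fact.out : p.Prime).pos hk1
        have h2 := (Fact.out : p.Prime).one_lt
        rw [hk] at hidx
        nlinarith
    have hpowC : ∀ x : S, x ^ p ∈ C := fun x => by
      obtain ⟨m, hm⟩ := hd
      have h1 := pow_index_mem C x
      have h2 := pow_mem h1 m
      rwa [← pow_mul, ← hm] at h2
    have hcomC : commutator S ≤ C := by
      rcases (Nat.dvd_prime (Fact.out : p.Prime)).1 hd with h1 | h1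
      · rw [index_eq_one.1 h1]; exact le_top
      · haveI : IsCyclic (S ⧸ C) :=
          isCyclic_of_prime_card (p := p) ((index_eq_card C).symm.trans h1)
        exact (Subgroup.Normal.quotient_commutative_iff_commutator_le (N := C)).mp inferInstance
    have hfrC : (frattini P).map P.subtype ≤ centralizer ((Z.map S.subtype : Subgroup G) : Set G) := by
      rw [map_le_iff_le_comap]
      have key : ∀ x : S, x ∈ C → (x : G) ∈ centralizer ((Z.map S.subtype : Subgroup G) : Set G) := by
        intro x hx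
        refine mem_centralizer_iff.2 ?_
        rintro _ ⟨z, hz, rfl⟩
        exact congrArg Subtype.val (mem_centralizer_iff.1 hx z hz)
      refine LocalStructure.frattini_le_of_commutator_le_of_pow_mem (p := p) ?_ fun x => ?_
      · rw [commutator_def, commutator_le]
        intro x _ y _
        refine key ⟨_, hPS (⁅x, y⁆ : P).2⟩ (hcomC ?_)
        have e : (⟨((⁅x, y⁆ : P) : G), hPS (⁅x, y⁆ : P).2⟩ : S) =
            ⁅(⟨x, hPS x.2⟩ : S), ⟨y, hPS y.2⟩⁆ := Subtype.ext rfl
        rw [e]
        exact commutator_mem_commutator (mem_top _) (mem_top _)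
      · exact key (⟨x, hPS x.2⟩ ^ p) (hpowC _)
    have hZA : Z.map S.subtype ≤ A := by
      intro z hz
      have hzU : z ∈ U := by
        obtain ⟨y, hy, rfl⟩ := hz
        exact hZU hy
      refine hmax.mem hA (hUe.2 z hzU) (mem_centralizer_iff.2 fun a ha => ?_)
      exact (mem_centralizer_iff.1 (hfrC (hfr ha)) z hz).symm
    have hZA' : Z.map S.subtype = A := eq_of_le_of_card_ge hZA (by
      rw [hc, card_map_of_injective S.subtype_injective, hZc])
    have hAU : A ≤ U := by
      rw [← hZA']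
      rintro _ ⟨y, hy, rfl⟩
      exact hZU hy
    have := hmax U hUe hAU
    rw [this, hc] at hUc
    exact absurd hUc (Nat.not_le.2 (Nat.pow_lt_pow_right (Fact.out : p.Prime).one_lt (by norm_num)))

/-- BG 11.5, first case: the elements of `A` central in the Sylow subgroup. -/
theorem Exceptional.le_centralizer_sylow (h : Exceptional p M A A₀) (hP : IsSylowIn p P M)
    (hAP : A ≤ P) : P ≤ centralizer (A : Set G) := by
  by_contra hnc
  have hmax := h.maxElem hG F
  set Z := A ⊓ centralizer (P : Set G) with hZdef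
  have hPne : P ≠ ⊥ := fun hb => ne_bot_of_card_sq h.card (le_bot_iff.1 (hb ▸ hAP))
  obtain ⟨z, hzP, hzc, hzo⟩ := exists_central_of_isPGroup hP.isPGroup hPne
  have hZne : Z ≠ ⊥ := fun hb => by
    have := hmax.central_mem h.elem hAP hzc hzo
    rw [← hZdef, hb, mem_bot] at this
    rw [this, orderOf_one] at hzo
    exact (Fact.out : p.Prime).ne_one hzo.symm
  have hZc : Nat.card Z = p := card_eq_of_lt_of_ne_bot h.card
    (lt_of_le_of_ne inf_le_left fun e => hnc (le_centralizer_iff.1 (inf_eq_left.1 e))) hZne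
  have hPZ : P ≤ centralizer (Z : Set G) := le_centralizer_iff.1 inf_le_right
  have hNPZ : normalizer (P : Set G) ≤ normalizer (Z : Set G) :=
    le_normalizer_inf_centralizer_self h.elem hmax hAP
  obtain ⟨g, hg, hgM, hYP, hYfix⟩ := h.exists_fpf hG F hP hAP
  set Y := A₀.map (MulAut.conj g).toMonoidHom with hY
  have hYc : Nat.card Y = p := by rw [hY, card_map_conj, h.line_card]
  have hYZ : Y ≠ Z := by
    intro e
    apply hgM
    apply h.normalizer_le
    have hgZ := map_conj_eq_self_iff.2 (hNPZ hg)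
    rw [← hgZ] at e
    rw [map_injective (MulAut.conj g).injective e]
    exact hNPZ hg
  -- the Sylow subgroup of `G` centralizes `Z`
  obtain ⟨S, hPS, hS⟩ := exists_isSylowIn_ge (le_top : P ≤ ⊤) hP.isPGroup
  have hAS : A ≤ S := hAP.trans hPS
  have hSM : ∀ x ∈ S, x ∈ M → x ∈ P := by
    intro x hx hxM
    exact (hP.eq_of_le (le_inf hPS hP.le) inf_le_right hS.isPGroup.to_inf_left).le ⟨hx, hxM⟩
  have hcent : ∀ x ∈ centralizer (S : Set G), x ∈ S → orderOf x = p → x ∈ Z := fun x hxc hxS hxo =>
    hmax.central_mem h.elem hAP (centralizer_le hPS hxc) hxo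
  obtain ⟨w, hwS, hwc, hwo⟩ := exists_central_of_isPGroup hS.isPGroup
    (fun hb => hPne (le_bot_iff.1 (hb ▸ hPS)))
  have hw1 : w ≠ 1 := fun e => by
    rw [e, orderOf_one] at hwo
    exact (Fact.out : p.Prime).ne_one hwo.symm
  have hwZ : zpowers w = Z := zpowers_eq_of_card hZc (hcent w hwc hwS hwo) hw1
  have hSZ : S ≤ centralizer (Z : Set G) := by
    rw [← hwZ, centralizer_zpowers]
    exact fun x hx => mem_centralizer_singleton_iff.2 (mem_centralizer_iff.1 hwc x hx)
  have hNS : normalizer (S : Set G) ≤ normalizer (Z : Set G) := by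
    intro u hu
    rw [← map_conj_eq_self_iff, ← hwZ, MonoidHom.map_zpowers]
    rw [hwZ]
    refine zpowers_eq_of_card hZc ?_ ?_
    · exact hcent _ (conj_mem_centralizer hu hwc) (conj_mem_of_mem_normalizer hu hwS)
        ((orderOf_injective (MulAut.conj u).toMonoidHom (MulAut.conj u).injective w).trans hwo)
    · exact fun e => hw1 ((MulAut.conj u).injective (by rw [map_one]; exact e))
  obtain ⟨K, hK, hNK⟩ := minSimple_exists_coatom hG
    (minSimple_normalizer_ne_top hG hZne (minSimple_ne_top_of_isPGroup hG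
      (hP.isPGroup.to_le (inf_le_left.trans hAP))))
  have hKM : K ≠ M := fun e => hgM (e ▸ hNK (hNPZ hg))
  have hSK : S ≤ K := (hSZ.trans (centralizer_le_normalizer _)).trans hNK
  have hpK : p ∈ Cfsg.sigma K := sigma_of_sylow_top F hS hSK
    (fun hb => hPne (le_bot_iff.1 (hb ▸ hPS))) (hNS.trans hNK)
  have hPK : P ≤ Cfsg.sigmaCore K :=
    pGroup_le_sigmaCore F hK hpK (hPS.trans hSK) hP.isPGroup
  have hint := h.sigmaCore_inf_sigmaCore hG F hK (hAS.trans hSK) hKM
  have hDbot : Cfsg.sigmaCore M ⊓ centralizer (Z : Set G) = ⊥ := by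
    rw [eq_bot_iff, ← hYfix]
    refine le_inf inf_le_left fun d hd => mem_centralizer_iff.2 fun y hy => ?_
    have hdK : d ∈ K := hNK (centralizer_le_normalizer _ hd.2)
    have h1 : ⁅y, d⁆ ∈ Cfsg.sigmaCore K ⊓ Cfsg.sigmaCore M := by
      refine ⟨?_, ?_⟩
      · rw [commutatorElement_def, show y * d * y⁻¹ * d⁻¹ = y * (d * y⁻¹ * d⁻¹) by group]
        exact mul_mem (hPK (hYP hy))
          (conj_mem_of_mem_normalizer (le_normalizer_sigmaCore K hdK) (inv_mem (hPK (hYP hy))))
      · rw [commutatorElement_def]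
        show y * d * y⁻¹ * d⁻¹ ∈ Cfsg.sigmaCore M
        have hdS : d ∈ Cfsg.sigmaCore M := hd.1
        exact mul_mem (conj_mem_of_mem_normalizer
          (le_normalizer_sigmaCore M (hP.le (hYP hy))) hdS) (inv_mem hdS)
    rw [hint, mem_bot, commutatorElement_eq_one_iff_mul_comm] at h1
    exact h1
  -- a second maximal elementary abelian group all of whose lines act freely
  obtain ⟨y, hy, hy1⟩ := exists_mem_ne_one_of_card hYc
  set A' := Z ⊔ Y with hA'
  have hA'e : Cfsg.IsElementaryAbelian p A' := by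
    rw [hA', ← zpowers_eq_of_card hYc hy hy1]
    refine elem_sup_zpowers (isElementaryAbelian_mono inf_le_left h.elem) ?_ (hPZ (hYP hy))
    have := orderOf_dvd_iff_pow_eq_one.1 (dvd_of_eq ((Nat.card_zpowers y).symm.trans
      ((congrArg (fun K : Subgroup G => Nat.card K) (zpowers_eq_of_card hYc hy hy1)).trans hYc)))
    exact this
  have hA'P : A' ≤ P := sup_le (inf_le_left.trans hAP) hYP
  have hA'c : Nat.card A' = p ^ 2 := card_sup_eq_sq hZc hYc
    ((hYP.trans hPZ).trans (centralizer_le_normalizer _)) (Ne.symm hYZ)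
  have hA'max : MaxElem p A' :=
    maxElem_of_not_sigma F h.maximal h.not_sigma (hA'P.trans hP.le) hA'e hA'c
  have hA'nc : ¬ P ≤ centralizer (A' : Set G) := by
    intro hc'
    have hyp : orderOf y = p := orderOf_eq_prime (hA'e.2 y (mem_sup_right hy)) hy1
    exact hYZ ((zpowers_eq_of_card hYc hy hy1).symm.trans (zpowers_eq_of_card hZc
      (hmax.central_mem h.elem hAP
        (mem_centralizer_iff.2 fun x hx => (mem_centralizer_iff.1 (hc' hx) y (mem_sup_right hy)).symm)
        hyp) hy1))
  apply sigmaCore_ne_bot F hG h.maximal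
  have hps := not_dvd_card_sigmaCore h.not_sigma
  haveI := hA'e.1
  refine le_bot_iff.1 (Coprime.le_of_forall_inf_centralizer_le (not_isCyclic_of_card_sq hA'e hA'c)
    ((hA'P.trans hP.le).trans (le_normalizer_sigmaCore M))
    (coprime_card_of_not_dvd (isPGroup_of_isElementaryAbelian hA'e) hps) fun a ha ha1 => ?_)
  have hac : Nat.card (zpowers a) = p := card_zpowers_of_mem hA'e.2 ha ha1
  rw [← centralizer_zpowers (G := G)]
  by_cases haZ : zpowers a = Z
  · rw [haZ, hDbot]
  obtain ⟨u, hu, hu'⟩ := exists_conj_line hP.isPGroup hA'P hA'e hA'c hA'max hA'nc hZc le_sup_left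
    hPZ hYc le_sup_right hYZ hac (zpowers_le.2 ha) haZ
  intro d hd
  have hum := inv_mem (le_normalizer_sigmaCore M (hP.le hu))
  have hd' : u⁻¹ * d * u ∈ Cfsg.sigmaCore M ⊓ centralizer (Y : Set G) := by
    refine ⟨by simpa using conj_mem_of_mem_normalizer hum hd.1, mem_centralizer_iff.2 fun v hv => ?_⟩
    have h2 := mem_centralizer_iff.1 hd.2 (u * v * u⁻¹) (hu' ▸ mem_map_of_mem _ hv)
    calc v * (u⁻¹ * d * u) = u⁻¹ * (u * v * u⁻¹ * d) * u := by group
      _ = u⁻¹ * (d * (u * v * u⁻¹)) * u := by rw [h2]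
      _ = u⁻¹ * d * u * v := by group
  rw [hYfix, mem_bot] at hd'
  rw [mem_bot]
  calc d = u * (u⁻¹ * d * u) * u⁻¹ := by group
    _ = 1 := by rw [hd']; group

/-- BG 11.5: the Sylow `p`-subgroups of an exceptional maximal subgroup are abelian. -/
theorem Exceptional.isMulCommutative_sylow (h : Exceptional p M A A₀) (hP : IsSylowIn p P M)
    (hAP : A ≤ P) : IsMulCommutative P := by
  have hcent := h.le_centralizer_sylow hG F hP hAP
  have hmax := h.maxElem hG F
  have hp2 := h.ne_two hG F
  obtain ⟨S, hPS, hS⟩ := exists_isSylowIn_ge (le_top : P ≤ ⊤) hP.isPGroup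
  have hAS := hAP.trans hPS
  have hPeq : S ⊓ centralizer (A : Set G) = P :=
    hP.eq_of_le (le_inf hPS hcent) (inf_le_right.trans (h.centralizer_le_maximal hG F))
      hS.isPGroup.to_inf_left
  by_cases heq : P = S
  · subst heq
    have hr : Cfsg.PRankLE p 2 P :=
      BG4.pRankLE_of_injective (Subgroup.inclusion hP.le) (Subgroup.inclusion_injective _)
        (pRankLE_two_of_not_sigma F h.maximal h.not_sigma)
    rcases F.rankTwoSylow p hS.toSylowTop hr with hab | ⟨P₁, P₂, hgen, -, -, hc1, hexp, -, -⟩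
    · exact hab
    exfalso
    have hle : P₁ ≤ A := by
      intro a ha
      refine hmax.mem h.elem ?_ (hcent ((le_sup_left.trans hgen.le : P₁ ≤ P) ha))
      have := Monoid.pow_exponent_eq_one (⟨a, ha⟩ : P₁)
      rw [hexp] at this
      simpa using congrArg Subtype.val this
    have := card_le_of_le hle
    rw [hc1, h.card] at this
    exact absurd this (Nat.not_le.2 (Nat.pow_lt_pow_right (Fact.out : p.Prime).one_lt (by norm_num)))
  · refine isMulCommutative_of_not_le_frattini hP.isPGroup hp2 hAP h.elem h.card hmax hcent ?_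
    have := not_le_frattini_or_abelian hG F hS hAS h.elem h.card hmax
      (hPeq.symm ▸ lt_of_le_of_ne hPS heq)
    rwa [hPeq] at this

/-- BG 11.6(a). -/
theorem Exceptional.pow_eq_one_iff (h : Exceptional p M A A₀) (hP : IsSylowIn p P M)
    (hAP : A ≤ P) {x : G} (hx : x ∈ P) : x ^ p = 1 ↔ x ∈ A :=
  (h.maxElem hG F).pow_iff h.elem (h.le_centralizer_sylow hG F hP hAP hx)

theorem Exceptional.normalizer_sylow_le (h : Exceptional p M A A₀) (hP : IsSylowIn p P M)
    (hAP : A ≤ P) : normalizer (P : Set G) ≤ normalizer (A : Set G) := fun g hg =>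
  ConjFunctor.mem_normalizer_of_forall_conj_mem fun x hx => by
    rw [← h.pow_eq_one_iff hG F hP hAP (conj_mem_of_mem_normalizer hg (hAP hx)), conj_pow,
      h.elem.2 x hx]
    group

/-- BG 11.6(b), (c). -/
theorem Exceptional.exists_two_fpf (h : Exceptional p M A A₀) :
    Cfsg.sigmaCore M ⊓ centralizer (A : Set G) = ⊥ ∧
      ∃ X₁ X₂ : Subgroup G, X₁ ≤ A ∧ X₂ ≤ A ∧ Nat.card X₁ = p ∧ Nat.card X₂ = p ∧ X₁ ≠ X₂ ∧
        Cfsg.sigmaCore M ⊓ centralizer (X₁ : Set G) = ⊥ ∧
        Cfsg.sigmaCore M ⊓ centralizer (X₂ : Set G) = ⊥ := by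
  obtain ⟨P, hAP, hP⟩ := exists_isSylowIn_ge h.le (isPGroup_of_isElementaryAbelian h.elem)
  obtain ⟨g, hg, hgM, -, hfix⟩ := h.exists_fpf hG F hP hAP
  have hgA := h.normalizer_sylow_le hG F hP hAP hg
  have hmem : ∀ u ∈ normalizer (A : Set G), A₀.map (MulAut.conj u).toMonoidHom ≤ A := fun u hu =>
    map_conj_eq_self_iff.2 hu ▸ map_mono h.line_le
  refine ⟨?_, A₀.map (MulAut.conj g).toMonoidHom, A₀.map (MulAut.conj (g * g)).toMonoidHom,
    hmem g hgA, hmem _ (mul_mem hgA hgA), by rw [card_map_conj, h.line_card],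
    by rw [card_map_conj, h.line_card], fun e => hgM (h.normalizer_le ?_), hfix, ?_⟩
  · exact le_bot_iff.1 ((inf_le_inf_left _ (centralizer_le (hmem g hgA))).trans hfix.le)
  · rw [← map_conj_map_conj] at e
    exact map_conj_eq_self_iff.1 (map_injective (MulAut.conj g).injective e).symm
  · have hg2 : g * g ∉ M := by
      intro hh
      apply hgM
      obtain ⟨k, hk⟩ := (minSimple_odd hG).of_dvd_nat (orderOf_dvd_natCard g)
      have : g = (g * g) ^ (k + 1) := by
        rw [← sq, ← pow_mul, show 2 * (k + 1) = orderOf g + 1 by omega, pow_succ,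
          pow_orderOf_eq_one, one_mul]
      rw [this]
      exact pow_mem hh _
    refine h.inf_centralizer_conj hG F hg2 ?_
    rw [← map_conj_eq_self_iff.2 (mul_mem hgA hgA)]
    exact map_mono h.le

end CfsgLib.OddOrder.BG11
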